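/-
Shared core API (lead): basic facts about `Cfsg.pCore`, `Cfsg.pPrimeCore`, `Cfsg.oddCore`,
`Cfsg.fittingSubgroup`, `Cfsg.pResidual`, `Cfsg.IsElementaryAbelian`.
Everything lives in `namespace Cfsg.Agent.Lib`.
-/
import Mathlib
import Cfsg.Prelude.Def_Solvable
import Cfsg.Prelude.Def_CaseTheorems
import Cfsg.Prelude.Def_Transfer

set_option autoImplicit false
open Pointwise

namespace Cfsg.Agent.Lib

variable {G : Type*} [Group G]

/-! ### `pCore` -/

/-- A normal `p`-subgroup lies in `O_p(G)`. -/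
theorem le_pCore {p : ℕ} {N : Subgroup G} (hN : N.Normal) (hp : IsPGroup p N) : N ≤ Cfsg.pCore p G :=
  le_sSup ⟨hN, hp⟩

/-- `O_p(G)` is characteristic. -/
theorem pCore_characteristic (p : ℕ) : (Cfsg.pCore p G).Characteristic := by
  rw [Subgroup.characteristic_iff_map_le]
  intro φ
  unfold Cfsg.pCore
  rw [Subgroup.map_le_iff_le_comap]
  refine sSup_le fun N hN => ?_
  rw [← Subgroup.map_le_iff_le_comap]
  refine le_sSup ⟨?_, ?_⟩
  · exact Subgroup.Normal.map hN.1 φ.toMonoidHom φ.surjective
  · exact hN.2.map φ.toMonoidHom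

/-- A normal `p`-subgroup lies in every Sylow `p`-subgroup (Mathlib: `IsPGroup.le_sylow_of_normal`). -/
theorem normal_pGroup_le_sylow {p : ℕ} {N : Subgroup G} (hN : N.Normal)
    (hp : IsPGroup p N) (P : Sylow p G) : N ≤ P :=
  have := hN
  hp.le_sylow_of_normal P

/-- `O_p(G)` lies in every Sylow `p`-subgroup. -/
theorem pCore_le_sylow {p : ℕ} (P : Sylow p G) : Cfsg.pCore p G ≤ P :=
  sSup_le fun _ hN => normal_pGroup_le_sylow hN.1 hN.2 P

/-- `O_p(G)` is a `p`-group (no finiteness needed). -/
theorem isPGroup_pCore (p : ℕ) : IsPGroup p (Cfsg.pCore p G) :=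
  Sylow.sSup_of_normal _ (fun _ h => h.2) (fun _ h => h.1)

/-- `O_p(G)` is the largest normal `p`-subgroup: characterisation of subgroups below it. -/
theorem le_pCore_iff {p : ℕ} {N : Subgroup G} [hN : N.Normal] :
    N ≤ Cfsg.pCore p G ↔ IsPGroup p N :=
  ⟨fun h => (isPGroup_pCore p).to_le h, fun h => le_pCore hN h⟩

/-- `O_p(G)` is the intersection of the Sylow `p`-subgroups. -/
theorem pCore_eq_iInf_sylow (p : ℕ) :
    Cfsg.pCore p G = ⨅ P : Sylow p G, (P : Subgroup G) := by
  apply le_antisymm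
  · exact le_iInf fun P => pCore_le_sylow P
  · apply le_pCore
    · refine ⟨fun x hx g => ?_⟩
      rw [Subgroup.mem_iInf] at hx ⊢
      intro P
      have := hx (g⁻¹ • P)
      rw [Sylow.coe_subgroup_smul, Subgroup.mem_pointwise_smul_iff_inv_smul_mem] at this
      simpa [MulAut.smul_def] using this
    · obtain ⟨P⟩ : Nonempty (Sylow p G) := inferInstance
      exact P.2.to_le (iInf_le _ P)

/-- If `G` is a `p`-group then `O_p(G) = G`. -/
theorem pCore_eq_top_of_isPGroup {p : ℕ} (h : IsPGroup p G) : Cfsg.pCore p G = ⊤ :=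
  top_le_iff.mp (le_pCore inferInstance (h.to_subgroup ⊤))

/-- A normal Sylow `p`-subgroup is `O_p(G)`. -/
theorem pCore_eq_of_normal_sylow {p : ℕ} (P : Sylow p G)
    (hP : (P : Subgroup G).Normal) : Cfsg.pCore p G = P :=
  le_antisymm (pCore_le_sylow P) (le_pCore hP P.2)

/-! ### `pPrimeCore` and `oddCore` -/

/-- A normal subgroup of order prime to `p` lies in `O_{p'}(G)`. -/
theorem le_pPrimeCore {p : ℕ} {N : Subgroup G} (hN : N.Normal) (hp : (Nat.card N).Coprime p) :
    N ≤ Cfsg.pPrimeCore p G :=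
  le_sSup ⟨hN, hp⟩

/-- `O_{p'}(G)` is characteristic. -/
theorem pPrimeCore_characteristic (p : ℕ) : (Cfsg.pPrimeCore p G).Characteristic := by
  rw [Subgroup.characteristic_iff_map_le]
  intro φ
  unfold Cfsg.pPrimeCore
  rw [Subgroup.map_le_iff_le_comap]
  refine sSup_le fun N hN => ?_
  rw [← Subgroup.map_le_iff_le_comap]
  refine le_sSup ⟨?_, ?_⟩
  · exact Subgroup.Normal.map hN.1 φ.toMonoidHom φ.surjective
  · have : Nat.card (N.map φ.toMonoidHom) = Nat.card N :=
      Nat.card_congr (N.equivMapOfInjective φ.toMonoidHom φ.injective).symm.toEquiv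
    rw [this]; exact hN.2

/-- The join of two subgroups of order prime to `n`, one of them normal, has order prime to `n`. -/
theorem card_sup_coprime_of_normal [Finite G] {n : ℕ} {H K : Subgroup G} [K.Normal]
    (hH : (Nat.card H).Coprime n) (hK : (Nat.card K).Coprime n) :
    (Nat.card (H ⊔ K : Subgroup G)).Coprime n := by
  have h1 : Nat.card (H ⊔ K : Subgroup G) = K.relIndex (H ⊔ K) * Nat.card K := by
    have := Subgroup.relIndex_mul_relIndex ⊥ K (H ⊔ K) bot_le le_sup_right
    rw [Subgroup.relIndex_bot_left, Subgroup.relIndex_bot_left] at this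
    rw [← this, mul_comm]
  rw [h1, Subgroup.relIndex_sup_right]
  exact Nat.Coprime.mul_left (Nat.Coprime.coprime_dvd_left (Subgroup.relIndex_dvd_card K H) hH) hK

/-- In a finite group `O_{p'}(G)` has order prime to `p`. -/
theorem card_pPrimeCore_coprime [Finite G] (p : ℕ) : (Nat.card (Cfsg.pPrimeCore p G)).Coprime p := by
  classical
  unfold Cfsg.pPrimeCore
  have hfin : {N : Subgroup G | N.Normal ∧ (Nat.card N).Coprime p}.Finite := Set.toFinite _
  have key : ∀ s : Set (Subgroup G), s.Finite → (∀ N ∈ s, N.Normal ∧ (Nat.card N).Coprime p) →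
      (sSup s).Normal ∧ (Nat.card (sSup s : Subgroup G)).Coprime p := by
    intro s hs
    induction s, hs using Set.Finite.induction_on with
    | empty =>
      intro _
      simp only [sSup_empty]
      exact ⟨inferInstance, by simp⟩
    | insert _ _ ih =>
      intro h
      rw [sSup_insert]
      obtain ⟨h1, h2⟩ := ih fun N hN => h N (Set.mem_insert_of_mem _ hN)
      obtain ⟨h3, h4⟩ := h _ (Set.mem_insert _ _)
      have := h1; have := h3
      exact ⟨inferInstance, card_sup_coprime_of_normal h4 h2⟩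
  exact (key _ hfin fun N hN => hN).2

/-- Characterisation of normal subgroups below `O_{p'}(G)`. -/
theorem le_pPrimeCore_iff [Finite G] {p : ℕ} {N : Subgroup G} [hN : N.Normal] :
    N ≤ Cfsg.pPrimeCore p G ↔ (Nat.card N).Coprime p :=
  ⟨fun h => Nat.Coprime.coprime_dvd_left (Subgroup.card_dvd_of_le h) (card_pPrimeCore_coprime p),
    fun h => le_pPrimeCore hN h⟩

/-- In a finite group the core `O(G)` has odd order. -/
theorem odd_card_oddCore [Finite G] : Odd (Nat.card (Cfsg.oddCore G)) := by
  have := card_pPrimeCore_coprime (G := G) 2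
  exact Nat.Coprime.odd_of_right this

/-- A normal subgroup of odd order lies in `O(G)`. -/
theorem le_oddCore {N : Subgroup G} (hN : N.Normal) (h : Odd (Nat.card N)) : N ≤ Cfsg.oddCore G :=
  le_pPrimeCore hN (Nat.Coprime.symm (Nat.coprime_two_left.mpr h))

/-- `O_p(G) ∩ O_{p'}(G) = 1`. -/
theorem pCore_inf_pPrimeCore [Finite G] (p : ℕ) [Fact p.Prime] :
    Cfsg.pCore p G ⊓ Cfsg.pPrimeCore p G = ⊥ := by
  have h1 : IsPGroup p (Cfsg.pCore p G ⊓ Cfsg.pPrimeCore p G : Subgroup G) :=
    (isPGroup_pCore p).to_inf_left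
  obtain ⟨n, hn⟩ := IsPGroup.iff_card.mp h1
  have h2 : (Nat.card (Cfsg.pCore p G ⊓ Cfsg.pPrimeCore p G : Subgroup G)).Coprime p :=
    Nat.Coprime.coprime_dvd_left (Subgroup.card_dvd_of_le inf_le_right) (card_pPrimeCore_coprime p)
  rw [hn] at h2
  rcases Nat.eq_zero_or_pos n with rfl | hpos
  · rw [pow_zero] at hn; exact Subgroup.card_eq_one.mp hn
  · exfalso
    have := (Nat.coprime_pow_left_iff hpos p p).mp h2
    rw [Nat.coprime_self] at this
    exact (Fact.out : p.Prime).one_lt.ne' this


/-! ### A finite induction principle for joins of normal subgroups -/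

/-- To prove a property of the join of a set of normal subgroups of a finite group, it suffices to
prove it for `⊥` and to show it is preserved under binary joins of normal subgroups. -/
theorem sSup_normal_induction [Finite G] {P : Subgroup G → Prop} (hbot : P ⊥)
    (hsup : ∀ H K : Subgroup G, H.Normal → K.Normal → P H → P K → P (H ⊔ K))
    (s : Set (Subgroup G)) (hs : ∀ N ∈ s, N.Normal ∧ P N) : (sSup s).Normal ∧ P (sSup s) := by
  classical
  have hfin : s.Finite := Set.toFinite _
  induction s, hfin using Set.Finite.induction_on with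
  | empty =>
    simp only [sSup_empty]
    exact ⟨inferInstance, hbot⟩
  | insert _ _ ih =>
    rw [sSup_insert]
    obtain ⟨h1, h2⟩ := ih fun N hN => hs N (Set.mem_insert_of_mem _ hN)
    obtain ⟨h3, h4⟩ := hs _ (Set.mem_insert _ _)
    have := h1; have := h3
    exact ⟨inferInstance, hsup _ _ h3 h1 h4 h2⟩

/-! ### The Fitting subgroup -/

instance fittingSubgroup_normal : (Cfsg.fittingSubgroup G).Normal :=
  Subgroup.sSup_normal _ (fun _ h => h.1)

/-- A normal nilpotent subgroup lies in `F(G)`. -/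
theorem le_fittingSubgroup {N : Subgroup G} (hN : N.Normal) (hnil : Group.IsNilpotent N) :
    N ≤ Cfsg.fittingSubgroup G :=
  le_sSup ⟨hN, hnil⟩

/-- `F(G)` is characteristic. -/
theorem fittingSubgroup_characteristic : (Cfsg.fittingSubgroup G).Characteristic := by
  rw [Subgroup.characteristic_iff_map_le]
  intro φ
  unfold Cfsg.fittingSubgroup
  rw [Subgroup.map_le_iff_le_comap]
  refine sSup_le fun N hN => ?_
  rw [← Subgroup.map_le_iff_le_comap]
  refine le_sSup ⟨?_, ?_⟩
  · exact Subgroup.Normal.map hN.1 φ.toMonoidHom φ.surjective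
  · have := hN.2
    exact Group.nilpotent_of_mulEquiv (N.equivMapOfInjective φ.toMonoidHom φ.injective)

/-- `O_p(G) ≤ F(G)` in a finite group. -/
theorem pCore_le_fittingSubgroup [Finite G] (p : ℕ) [Fact p.Prime] :
    Cfsg.pCore p G ≤ Cfsg.fittingSubgroup G :=
  le_fittingSubgroup inferInstance (isPGroup_pCore p).isNilpotent

/-- For a normal nilpotent subgroup `N` of a finite group, `[N : N ∩ O_p(G)]` is prime to `p`. -/
theorem relIndex_pCore_coprime_of_nilpotent [Finite G] (p : ℕ) [Fact p.Prime] {N : Subgroup G}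
    (hN : N.Normal) (hnil : Group.IsNilpotent N) : ((Cfsg.pCore p G).relIndex N).Coprime p := by
  have := hN
  obtain ⟨Q⟩ : Nonempty (Sylow p N) := inferInstance
  have hQn : (Q : Subgroup N).Normal := inferInstance
  have hQc : (Q : Subgroup N).Characteristic := Q.characteristic_of_normal hQn
  have hQG : ((Q : Subgroup N).map N.subtype).Normal := inferInstance
  have hle : (Q : Subgroup N).map N.subtype ≤ Cfsg.pCore p G :=
    le_pCore hQG (Q.2.map N.subtype)
  -- `[N : N ∩ O_p(G)]` divides `[N : Q]`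
  have h1 : (Cfsg.pCore p G).relIndex N ∣ ((Q : Subgroup N).map N.subtype).relIndex N :=
    Subgroup.relIndex_dvd_of_le_left N hle
  have h2 : ((Q : Subgroup N).map N.subtype).relIndex N = (Q : Subgroup N).index := by
    rw [Subgroup.relIndex, Subgroup.subgroupOf, Subgroup.comap_map_eq_self_of_injective
      (Subgroup.subtype_injective N)]
  have h3 : ¬ p ∣ (Q : Subgroup N).index := Q.not_dvd_index
  rw [h2] at h1
  exact Nat.Coprime.symm (((Nat.Prime.coprime_iff_not_dvd Fact.out).mpr h3).coprime_dvd_right h1)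

/-- In a finite group, `[F(G) : O_p(G)]` is prime to `p`. -/
theorem relIndex_pCore_fittingSubgroup_coprime [Finite G] (p : ℕ) [Fact p.Prime] :
    ((Cfsg.pCore p G).relIndex (Cfsg.fittingSubgroup G)).Coprime p := by
  have key := sSup_normal_induction (G := G)
    (P := fun N => ((Cfsg.pCore p G).relIndex N).Coprime p) (by simp) ?_
    {N : Subgroup G | N.Normal ∧ Group.IsNilpotent N}
    (fun N hN => ⟨hN.1, relIndex_pCore_coprime_of_nilpotent p hN.1 hN.2⟩)
  · exact key.2
  · intro H K hH hK h1 h2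
    have := hH; have := hK
    -- pass to the quotient by `O_p(G)`
    have e : ∀ L : Subgroup G, (Cfsg.pCore p G).relIndex L =
        Nat.card (L.map (QuotientGroup.mk' (Cfsg.pCore p G))) := by
      intro L
      have := Subgroup.relIndex_ker (QuotientGroup.mk' (Cfsg.pCore p G)) (K := L)
      rwa [QuotientGroup.ker_mk'] at this
    simp only [e] at h1 h2 ⊢
    rw [Subgroup.map_sup]
    have : (K.map (QuotientGroup.mk' (Cfsg.pCore p G))).Normal :=
      Subgroup.Normal.map hK _ (QuotientGroup.mk'_surjective _)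
    exact card_sup_coprime_of_normal h1 h2

/-- **Fitting's theorem** (finite case): the Fitting subgroup of a finite group is nilpotent. -/
theorem isNilpotent_fittingSubgroup [Finite G] : Group.IsNilpotent (Cfsg.fittingSubgroup G) := by
  refine ((Group.isNilpotent_of_finite_tfae (G := Cfsg.fittingSubgroup G)).out 3 0).mp ?_
  intro p hp P
  -- `O_p(G) ∩ F(G)` is a normal Sylow `p`-subgroup of `F(G)`
  have hOp : IsPGroup p ((Cfsg.pCore p G).subgroupOf (Cfsg.fittingSubgroup G)) :=
    (isPGroup_pCore p).comap_subtype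
  have hidx : ¬ p ∣ ((Cfsg.pCore p G).subgroupOf (Cfsg.fittingSubgroup G)).index := by
    have := relIndex_pCore_fittingSubgroup_coprime (G := G) p
    exact (Nat.Prime.coprime_iff_not_dvd hp.out).mp this.symm
  have hQn : ((hOp.toSylow hidx : Sylow p (Cfsg.fittingSubgroup G)) :
      Subgroup (Cfsg.fittingSubgroup G)).Normal := by
    show ((Cfsg.pCore p G).subgroupOf (Cfsg.fittingSubgroup G)).Normal
    infer_instance
  obtain ⟨g, hg⟩ := MulAction.exists_smul_eq (Cfsg.fittingSubgroup G) (hOp.toSylow hidx) P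
  rw [← hg, Sylow.smul_eq_of_normal]
  exact hQn

/-- Characterisation of the normal subgroups below `F(G)` in a finite group. -/
theorem le_fittingSubgroup_iff [Finite G] {N : Subgroup G} [hN : N.Normal] :
    N ≤ Cfsg.fittingSubgroup G ↔ Group.IsNilpotent N := by
  constructor
  · intro h
    have := isNilpotent_fittingSubgroup (G := G)
    have : Group.IsNilpotent (N.subgroupOf (Cfsg.fittingSubgroup G)) := inferInstance
    exact (Group.isNilpotent_congr (Subgroup.subgroupOfEquivOfLe h)).mp this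
  · exact fun h => le_fittingSubgroup hN h


/-! ### `pResidual` (`O^p(G)`) -/

/-- `O^p(G)` is characteristic. -/
theorem pResidual_characteristic (p : ℕ) : (Cfsg.pResidual p G).Characteristic := by
  rw [Subgroup.characteristic_iff_map_le]
  intro φ
  unfold Cfsg.pResidual
  rw [MonoidHom.map_closure]
  apply Subgroup.closure_mono
  rintro _ ⟨g, hg, rfl⟩
  show Nat.Coprime (orderOf (φ g)) p
  rw [MulEquiv.orderOf_eq]
  exact hg

instance pResidual_normal (p : ℕ) : (Cfsg.pResidual p G).Normal :=
  have := pResidual_characteristic (G := G) p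
  inferInstance

/-- Elements of order prime to `p` lie in `O^p(G)`. -/
theorem mem_pResidual_of_coprime {p : ℕ} {g : G} (hg : (orderOf g).Coprime p) :
    g ∈ Cfsg.pResidual p G :=
  Subgroup.subset_closure hg

/-- In a finite group the quotient by `O^p(G)` is a `p`-group. -/
theorem isPGroup_quotient_pResidual [Finite G] (p : ℕ) [hp : Fact p.Prime] :
    IsPGroup p (G ⧸ Cfsg.pResidual p G) := by
  intro x
  obtain ⟨g, rfl⟩ := QuotientGroup.mk_surjective x
  have hpos : 0 < orderOf g := orderOf_pos g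
  obtain ⟨k, m, hm, hkm⟩ := Nat.exists_eq_pow_mul_and_not_dvd hpos.ne' p hp.out.ne_one
  refine ⟨k, ?_⟩
  rw [← QuotientGroup.mk_pow, QuotientGroup.eq_one_iff]
  apply mem_pResidual_of_coprime
  rw [orderOf_pow' g (pow_ne_zero k hp.out.ne_zero), hkm, Nat.gcd_eq_right (Dvd.intro _ rfl),
    Nat.mul_div_cancel_left _ (pow_pos hp.out.pos k)]
  exact ((Nat.Prime.coprime_iff_not_dvd hp.out).mpr hm).symm

/-- In a finite group the index of `O^p(G)` is a power of `p`. -/
theorem index_pResidual [Finite G] (p : ℕ) [Fact p.Prime] :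
    ∃ n : ℕ, (Cfsg.pResidual p G).index = p ^ n :=
  IsPGroup.iff_card.mp (isPGroup_quotient_pResidual p)

/-- `O^p(G)` lies in every normal subgroup with `p`-group quotient. -/
theorem pResidual_le_of_isPGroup_quotient {p : ℕ} [Fact p.Prime] (N : Subgroup G) [N.Normal]
    (h : IsPGroup p (G ⧸ N)) : Cfsg.pResidual p G ≤ N := by
  unfold Cfsg.pResidual
  rw [Subgroup.closure_le]
  intro g hg
  have hg' : (orderOf g).Coprime p := hg
  rw [SetLike.mem_coe, ← QuotientGroup.eq_one_iff]
  obtain ⟨k, hk⟩ := (IsPGroup.iff_orderOf.mp h) (g : G ⧸ N)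
  have h1 : orderOf (g : G ⧸ N) ∣ orderOf g := orderOf_dvd_of_pow_eq_one (by
    rw [← QuotientGroup.mk_pow, pow_orderOf_eq_one]; rfl)
  have h2 : (orderOf (g : G ⧸ N)).Coprime p := Nat.Coprime.coprime_dvd_left h1 hg'
  rw [hk] at h2
  rcases Nat.eq_zero_or_pos k with rfl | hpos
  · rw [pow_zero] at hk; exact orderOf_eq_one_iff.mp hk
  · exfalso
    have := (Nat.coprime_pow_left_iff hpos p p).mp h2
    rw [Nat.coprime_self] at this
    exact (Fact.out : p.Prime).one_lt.ne' this

/-! ### Elementary abelian subgroups and `p`-rank -/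

theorem isElementaryAbelian_bot (p : ℕ) : Cfsg.IsElementaryAbelian p (⊥ : Subgroup G) :=
  ⟨inferInstance, fun a ha => by rw [Subgroup.mem_bot.mp ha, one_pow]⟩

theorem isElementaryAbelian_mono {p : ℕ} {A B : Subgroup G} (hA : Cfsg.IsElementaryAbelian p A)
    (h : B ≤ A) : Cfsg.IsElementaryAbelian p B := by
  refine ⟨⟨⟨fun a b => ?_⟩⟩, fun b hb => hA.2 b (h hb)⟩
  have := hA.1
  have := mul_comm' (⟨a, h a.2⟩ : A) ⟨b, h b.2⟩
  exact Subtype.ext (congrArg (fun z : A => (z : G)) this)

theorem isElementaryAbelian_isPGroup {p : ℕ} {A : Subgroup G} (hA : Cfsg.IsElementaryAbelian p A) :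
    IsPGroup p A := by
  intro a
  refine ⟨1, ?_⟩
  rw [pow_one]
  exact Subtype.ext (hA.2 a a.2)

theorem isElementaryAbelian_card_eq_pow [Finite G] {p : ℕ} [Fact p.Prime] {A : Subgroup G}
    (hA : Cfsg.IsElementaryAbelian p A) : ∃ n : ℕ, Nat.card A = p ^ n :=
  IsPGroup.iff_card.mp (isElementaryAbelian_isPGroup hA)

theorem isElementaryAbelian_commute {p : ℕ} {A : Subgroup G} (hA : Cfsg.IsElementaryAbelian p A)
    {a b : G} (ha : a ∈ A) (hb : b ∈ A) : a * b = b * a := by
  have := hA.1
  exact congrArg Subtype.val (mul_comm' (⟨a, ha⟩ : A) ⟨b, hb⟩)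

theorem pRankLE_mono {p k l : ℕ} (hp : 0 < p) (h : Cfsg.PRankLE p k G) (hkl : k ≤ l) :
    Cfsg.PRankLE p l G :=
  fun A hA hA' => (h A hA hA').trans (Nat.pow_le_pow_right hp hkl)

/-- `p`-rank bounds pass to subgroups. -/
theorem pRankLE_subgroup {p k : ℕ} (h : Cfsg.PRankLE p k G) (H : Subgroup G) :
    Cfsg.PRankLE p k H := by
  intro A hA hA'
  have hinj : Function.Injective H.subtype := Subgroup.subtype_injective H
  have e : Nat.card (A.map H.subtype) = Nat.card A :=
    Nat.card_congr (A.equivMapOfInjective H.subtype hinj).symm.toEquiv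
  rw [← e]
  refine h (A.map H.subtype) ?_ ?_
  · refine ⟨⟨fun a b => ?_⟩⟩
    obtain ⟨a, x, hx, rfl⟩ := a
    obtain ⟨b, y, hy, rfl⟩ := b
    have := mul_comm' (⟨x, hx⟩ : A) ⟨y, hy⟩
    apply Subtype.ext
    have h2 := congrArg (fun z : A => H.subtype z.1) this
    simpa using h2
  · rintro _ ⟨x, hx, rfl⟩
    rw [← map_pow, hA' x hx, map_one]

end Cfsg.Agent.Lib
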