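/-
Shared library (lead): Hall's theorems for finite solvable groups
(existence, conjugacy, containment), via Schur–Zassenhaus.
-/
import Mathlib
import Cfsg.Agent.S0002
import Cfsg.Agent.S0043

set_option autoImplicit false
open Pointwise

namespace Cfsg.Agent.Lib

universe u

/-- A nontrivial finite group has a minimal normal subgroup. -/
theorem exists_minimal_normal {G : Type*} [Group G] [Finite G] [Nontrivial G] :
    ∃ N : Subgroup G, N.Normal ∧ N ≠ ⊥ ∧
      ∀ M : Subgroup G, M.Normal → M ≤ N → M = ⊥ ∨ M = N := by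
  obtain ⟨N, hN⟩ := exists_minimal_of_wellFoundedLT (fun N : Subgroup G => N.Normal ∧ N ≠ ⊥)
    ⟨⊤, inferInstance, top_ne_bot⟩
  refine ⟨N, hN.prop.1, hN.prop.2, fun M hM hMN => ?_⟩
  by_cases h : M = ⊥
  · exact Or.inl h
  · exact Or.inr (le_antisymm hMN (hN.le_of_le ⟨hM, h⟩ hMN))

/-- Order of the full preimage of a subgroup of a quotient. -/
theorem card_comap_mk' {G : Type*} [Group G] [Finite G] (N : Subgroup G) [N.Normal]
    (H : Subgroup (G ⧸ N)) :
    Nat.card (H.comap (QuotientGroup.mk' N)) = Nat.card N * Nat.card H := by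
  have h1 : (H.comap (QuotientGroup.mk' N)).index = H.index :=
    Subgroup.index_comap_of_surjective H (QuotientGroup.mk'_surjective N)
  have h2 := (H.comap (QuotientGroup.mk' N)).card_mul_index
  have h3 := H.card_mul_index
  have h4 : Nat.card G = Nat.card (G ⧸ N) * Nat.card N := Subgroup.card_eq_card_quotient_mul_card_subgroup N
  have hpos : 0 < H.index := Nat.pos_of_ne_zero Subgroup.index_ne_zero_of_finite
  rw [h1] at h2
  apply Nat.eq_of_mul_eq_mul_right hpos
  rw [h2, h4, ← h3]
  ring

/-- Abelian Schur–Zassenhaus, containment form: if `N` is an abelian normal subgroup, `H ∩ N = 1`,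
`K ≤ HN` and `|K|` is prime to `|N|`, then `K` lies in a conjugate of `H` by an element of `N`. -/
theorem exists_conj_le_of_abelian_normal {G : Type*} [Group G] [Finite G] (N : Subgroup G) [N.Normal]
    [hNc : IsMulCommutative N] (H K : Subgroup G) (hKHN : K ≤ H ⊔ N) (hHN : H ⊓ N = ⊥)
    (hcop : (Nat.card K).Coprime (Nat.card N)) : ∃ a ∈ N, K ≤ MulAut.conj a • H := by
  classical
  set M : Subgroup G := K ⊔ N with hM
  have hNM : N ≤ M := le_sup_right
  have hKM : K ≤ M := le_sup_left
  have hMle : M ≤ N ⊔ H := by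
    rw [sup_comm N H]; exact sup_le hKHN le_sup_right
  have hKN : K ⊓ N = ⊥ := Subgroup.inf_eq_bot_of_coprime hcop
  let A : Subgroup M := N.subgroupOf M
  let K' : Subgroup M := K.subgroupOf M
  let H' : Subgroup M := H.subgroupOf M
  haveI : A.Normal := Subgroup.Normal.subgroupOf inferInstance M
  haveI : IsMulCommutative A := by
    refine ⟨⟨fun a b => ?_⟩⟩
    have ha : (a : M).1 ∈ N := a.2
    have hb : (b : M).1 ∈ N := b.2
    have := mul_comm' (⟨_, ha⟩ : N) ⟨_, hb⟩
    apply Subtype.ext; apply Subtype.ext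
    exact congrArg (fun z : N => (z : G)) this
  have hAK : Subgroup.IsComplement' A K' := by
    apply Subgroup.isComplement'_of_disjoint_and_mul_eq_univ
    · rw [disjoint_iff, eq_bot_iff]
      rintro x ⟨hx1, hx2⟩
      have : (x : G) ∈ K ⊓ N := ⟨hx2, hx1⟩
      rw [hKN, Subgroup.mem_bot] at this
      exact Subgroup.mem_bot.mpr (Subtype.ext this)
    · rw [Set.eq_univ_iff_forall]
      intro y
      have hy : (y : G) ∈ N ⊔ K := by rw [sup_comm]; exact y.2
      rw [← SetLike.mem_coe, Subgroup.normal_mul] at hy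
      obtain ⟨n, hn, k, hk, hnk⟩ := hy
      exact ⟨⟨n, hNM hn⟩, hn, ⟨k, hKM hk⟩, hk, Subtype.ext hnk⟩
  have hAH : Subgroup.IsComplement' A H' := by
    apply Subgroup.isComplement'_of_disjoint_and_mul_eq_univ
    · rw [disjoint_iff, eq_bot_iff]
      rintro x ⟨hx1, hx2⟩
      have : (x : G) ∈ H ⊓ N := ⟨hx2, hx1⟩
      rw [hHN, Subgroup.mem_bot] at this
      exact Subgroup.mem_bot.mpr (Subtype.ext this)
    · rw [Set.eq_univ_iff_forall]
      intro y
      have hy : (y : G) ∈ N ⊔ H := hMle y.2
      rw [← SetLike.mem_coe, Subgroup.normal_mul] at hy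
      obtain ⟨n, hn, h, hh, hnh⟩ := hy
      have hhM : h ∈ M := by
        have : h = n⁻¹ * (y : G) := by rw [← hnh]; group
        rw [this]
        exact M.mul_mem (M.inv_mem (hNM hn)) y.2
      exact ⟨⟨n, hNM hn⟩, hn, ⟨h, hhM⟩, hh, Subtype.ext hnh⟩
  have hcardA : Nat.card A = Nat.card N :=
    Nat.card_congr (Subgroup.subgroupOfEquivOfLe hNM).toEquiv
  have hcardK : Nat.card K' = Nat.card K :=
    Nat.card_congr (Subgroup.subgroupOfEquivOfLe hKM).toEquiv
  have hA : (Nat.card A).Coprime A.index := by
    rw [hAK.symm.index_eq_card, hcardA, hcardK]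
    exact hcop.symm
  obtain ⟨a, ha, hconj⟩ := Cfsg.Agent.S0002.result A hA H' K' hAH hAK
  refine ⟨(a : G), ha, ?_⟩
  intro x hx
  have hxK' : (⟨x, hKM hx⟩ : M) ∈ K' := hx
  rw [← hconj, Subgroup.mem_pointwise_smul_iff_inv_smul_mem] at hxK'
  rw [Subgroup.mem_pointwise_smul_iff_inv_smul_mem]
  have : ((MulAut.conj a)⁻¹ • (⟨x, hKM hx⟩ : M) : M).1 ∈ H := hxK'
  simpa [MulAut.smul_def] using this


/-- Elementwise lifting used in both cases of the induction: if the image of `x` lies in the conjugate
by the image of `g` of the image of `H`, then `x ∈ (gHg⁻¹) N`. -/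
theorem mem_conj_sup_of_mk_mem {G : Type*} [Group G] (N : Subgroup G) [N.Normal] (H : Subgroup G)
    (g x : G)
    (hx : QuotientGroup.mk' N x ∈ MulAut.conj (QuotientGroup.mk' N g) • H.map (QuotientGroup.mk' N)) :
    x ∈ (MulAut.conj g • H) ⊔ N := by
  rw [Subgroup.mem_pointwise_smul_iff_inv_smul_mem] at hx
  obtain ⟨h, hh, hhx⟩ := hx
  have h1 : QuotientGroup.mk' N (g * h * g⁻¹) = QuotientGroup.mk' N x := by
    rw [map_mul, map_mul, hhx]
    simp only [MulAut.smul_def, map_inv, MulAut.inv_apply, MulAut.conj_symm_apply]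
    group
  have h2 : (g * h * g⁻¹)⁻¹ * x ∈ N := by
    rw [← QuotientGroup.eq]; exact h1
  have h3 : g * h * g⁻¹ ∈ MulAut.conj g • H := by
    have := Subgroup.smul_mem_pointwise_smul h (MulAut.conj g) H hh
    rwa [MulAut.smul_def, MulAut.conj_apply] at this
  have h4 : x = (g * h * g⁻¹) * ((g * h * g⁻¹)⁻¹ * x) := by group
  rw [h4]
  exact Subgroup.mul_mem _ (Subgroup.mem_sup_left h3) (Subgroup.mem_sup_right h2)

theorem card_conj_smul {G : Type*} [Group G] (g : G) (H : Subgroup G) :
    Nat.card (MulAut.conj g • H : Subgroup G) = Nat.card H :=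
  (Nat.card_congr (Subgroup.equivSMul (MulAut.conj g) H).toEquiv).symm

/-- **Hall's theorems** for finite solvable groups, combined form: if `|G| = m n` with `(m, n) = 1`
then `G` has a subgroup of order `m`, and every subgroup of order prime to `n` lies in a conjugate of
any given subgroup of order `m`. -/
theorem hall_main : ∀ (k : ℕ) (G : Type u) [Group G] [Finite G] [Group.IsSolvable G], Nat.card G = k →
    ∀ m n : ℕ, k = m * n → m.Coprime n →
      (∃ H : Subgroup G, Nat.card H = m) ∧
      (∀ H K : Subgroup G, Nat.card H = m → (Nat.card K).Coprime n →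
        ∃ g : G, K ≤ MulAut.conj g • H) := by
  intro k
  induction k using Nat.strong_induction_on with
  | _ k ih =>
  intro G _ _ _ hk m n hmn hcop
  by_cases hsub : Subsingleton G
  · have hk1 : k = 1 := by rw [← hk]; exact Nat.card_unique
    have hm1 : m = 1 := by
      rw [hk1] at hmn
      exact Nat.eq_one_of_mul_eq_one_right hmn.symm
    refine ⟨⟨⊥, by rw [hm1]; exact Subgroup.card_bot⟩, fun H K _ _ => ⟨1, ?_⟩⟩
    have : K = ⊥ := Subsingleton.elim _ _
    rw [this]; exact bot_le
  · have hnt : Nontrivial G := not_subsingleton_iff_nontrivial.mp hsub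
    obtain ⟨N, hNn, hNbot, hNmin⟩ := exists_minimal_normal (G := G)
    obtain ⟨hNab, p, hp, hNp⟩ := Cfsg.Agent.S0043.result N hNbot hNmin
    haveI : Fact p.Prime := ⟨hp⟩
    have hNpg : IsPGroup p N := fun x => ⟨1, by rw [pow_one]; exact Subtype.ext (hNp x x.2)⟩
    obtain ⟨e, he⟩ := IsPGroup.iff_card.mp hNpg
    have hkpos : 0 < k := by rw [← hk]; exact Nat.card_pos
    have hm0 : m ≠ 0 := by rintro rfl; simp at hmn; omega
    have hn0 : n ≠ 0 := by rintro rfl; simp at hmn; omega
    have he0 : e ≠ 0 := by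
      rintro rfl
      rw [pow_zero] at he
      exact hNbot (Subgroup.card_eq_one.mp he)
    have hQ : Nat.card (G ⧸ N) * p ^ e = k := by
      rw [← he, ← hk]; exact (Subgroup.card_eq_card_quotient_mul_card_subgroup N).symm
    have hpe2 : 2 ≤ p ^ e := by
      calc 2 ≤ p := hp.two_le
        _ = p ^ 1 := (pow_one p).symm
        _ ≤ p ^ e := Nat.pow_le_pow_right hp.pos (Nat.one_le_iff_ne_zero.mpr he0)
    have hQpos : 0 < Nat.card (G ⧸ N) := Nat.card_pos
    have hQlt : Nat.card (G ⧸ N) < k := by
      rw [← hQ]; nlinarith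
    by_cases hpm : p ∣ m
    · -- Case 1: `p ∣ m`
      have hpn : ¬ p ∣ n := fun h => hp.one_lt.ne' (Nat.eq_one_of_dvd_coprimes hcop hpm h)
      have hpem : p ^ e ∣ m := by
        have h1 : p ^ e ∣ m * n := ⟨Nat.card (G ⧸ N), by rw [← hmn, ← hQ]; ring⟩
        exact (Nat.Coprime.pow_left e ((Nat.Prime.coprime_iff_not_dvd hp).mpr hpn)).dvd_of_dvd_mul_right h1
      obtain ⟨m', hm'⟩ := hpem
      have hQcard : Nat.card (G ⧸ N) = m' * n := by
        apply Nat.eq_of_mul_eq_mul_right (pow_pos hp.pos e)
        rw [hQ, hmn, hm']; ring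
      have hcop' : m'.Coprime n := Nat.Coprime.coprime_dvd_left ⟨p ^ e, by rw [hm']; ring⟩ hcop
      obtain ⟨⟨Hb, hHb⟩, hconj⟩ := ih _ hQlt (G ⧸ N) rfl m' n hQcard hcop'
      refine ⟨⟨Hb.comap (QuotientGroup.mk' N), by rw [card_comap_mk', he, hHb, hm']⟩, ?_⟩
      intro H K hH hK
      -- `N ≤ H`
      have hNH : N ≤ H := by
        obtain ⟨P⟩ : Nonempty (Sylow p H) := inferInstance
        have hPcard : Nat.card (P : Subgroup H) = p ^ (Nat.card H).factorization p :=
          P.card_eq_multiplicity
        have hfac : (Nat.card H).factorization p = (Nat.card G).factorization p := by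
          rw [hH, hk, hmn, Nat.factorization_mul hm0 hn0]
          simp [Nat.factorization_eq_zero_of_not_dvd hpn]
        have hP'card : Nat.card ((P : Subgroup H).map H.subtype) =
            p ^ (Nat.card G).factorization p := by
          rw [← hfac, ← hPcard]
          exact Nat.card_congr
            (Subgroup.equivMapOfInjective _ _ (Subgroup.subtype_injective H)).symm.toEquiv
        have hle : N ≤ Sylow.ofCard ((P : Subgroup H).map H.subtype) hP'card :=
          hNpg.le_sylow_of_normal _
        intro x hx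
        obtain ⟨y, _, rfl⟩ := hle hx
        exact y.2
      have hHbar : Nat.card (H.map (QuotientGroup.mk' N)) = m' := by
        have h1 : (H.map (QuotientGroup.mk' N)).comap (QuotientGroup.mk' N) = H := by
          rw [Subgroup.comap_map_eq, QuotientGroup.ker_mk', sup_eq_left.mpr hNH]
        have h2 := card_comap_mk' N (H.map (QuotientGroup.mk' N))
        rw [h1, hH, he, hm'] at h2
        exact (Nat.eq_of_mul_eq_mul_left (pow_pos hp.pos e) h2).symm
      have hKbar : (Nat.card (K.map (QuotientGroup.mk' N))).Coprime n :=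
        Nat.Coprime.coprime_dvd_left (Subgroup.card_map_dvd _ _) hK
      obtain ⟨gb, hgb⟩ := hconj _ _ hHbar hKbar
      obtain ⟨g, rfl⟩ := QuotientGroup.mk'_surjective N gb
      refine ⟨g, fun x hx => ?_⟩
      have h1 := mem_conj_sup_of_mk_mem N H g x (hgb (Subgroup.mem_map_of_mem _ hx))
      have h2 : N ≤ MulAut.conj g • H := by
        intro y hy
        rw [Subgroup.mem_pointwise_smul_iff_inv_smul_mem]
        apply hNH
        have := hNn.conj_mem y hy g⁻¹
        simpa [MulAut.smul_def] using this
      rwa [sup_eq_left.mpr h2] at h1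
    · -- Case 2: `p ∤ m`
      have hpen : p ^ e ∣ n := by
        have h1 : p ^ e ∣ m * n := ⟨Nat.card (G ⧸ N), by rw [← hmn, ← hQ]; ring⟩
        exact (Nat.Coprime.pow_left e ((Nat.Prime.coprime_iff_not_dvd hp).mpr hpm)).dvd_of_dvd_mul_left h1
      obtain ⟨n', hn'⟩ := hpen
      have hQcard : Nat.card (G ⧸ N) = m * n' := by
        apply Nat.eq_of_mul_eq_mul_right (pow_pos hp.pos e)
        rw [hQ, hmn, hn']; ring
      have hcop' : m.Coprime n' := Nat.Coprime.coprime_dvd_right ⟨p ^ e, by rw [hn']; ring⟩ hcop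
      have hcopm : m.Coprime (p ^ e) :=
        (Nat.Coprime.pow_left e ((Nat.Prime.coprime_iff_not_dvd hp).mpr hpm)).symm
      obtain ⟨⟨Lb, hLb⟩, hconj⟩ := ih _ hQlt (G ⧸ N) rfl m n' hQcard hcop'
      constructor
      · -- existence via Schur–Zassenhaus inside the preimage `L`
        set L : Subgroup G := Lb.comap (QuotientGroup.mk' N) with hL
        have hLcard : Nat.card L = p ^ e * m := by rw [hL, card_comap_mk', he, hLb]
        have hNL : N ≤ L := by
          intro x hx
          rw [hL, Subgroup.mem_comap]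
          have : QuotientGroup.mk' N x = 1 := (QuotientGroup.eq_one_iff x).mpr hx
          rw [this]; exact Lb.one_mem
        haveI : (N.subgroupOf L).Normal := Subgroup.Normal.subgroupOf hNn L
        have hN'card : Nat.card (N.subgroupOf L) = p ^ e := by
          rw [← he]; exact Nat.card_congr (Subgroup.subgroupOfEquivOfLe hNL).toEquiv
        have hN'idx : (N.subgroupOf L).index = m := by
          have := (N.subgroupOf L).card_mul_index
          rw [hN'card, hLcard] at this
          exact Nat.eq_of_mul_eq_mul_left (pow_pos hp.pos e) this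
        have hsz : (Nat.card (N.subgroupOf L)).Coprime (N.subgroupOf L).index := by
          rw [hN'card, hN'idx]; exact hcopm.symm
        obtain ⟨H', hH'⟩ := Subgroup.exists_right_complement'_of_coprime hsz
        refine ⟨H'.map L.subtype, ?_⟩
        rw [← hN'idx, hH'.symm.index_eq_card]
        exact Nat.card_congr
          (Subgroup.equivMapOfInjective _ _ (Subgroup.subtype_injective L)).symm.toEquiv
      · intro H K hH hK
        have hHN : H ⊓ N = ⊥ := by
          apply Subgroup.inf_eq_bot_of_coprime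
          rw [hH, he]; exact hcopm
        -- the image of `H` has order `m`
        have hHbar : Nat.card (H.map (QuotientGroup.mk' N)) = m := by
          have hr : H.map (QuotientGroup.mk' N) = ((QuotientGroup.mk' N).comp H.subtype).range := by
            rw [MonoidHom.range_comp, Subgroup.range_subtype]
          rw [← hH, hr]
          have hinj : Function.Injective ((QuotientGroup.mk' N).comp H.subtype) := by
            rw [injective_iff_map_eq_one]
            intro x hx
            have hx' : QuotientGroup.mk' N (x : G) = 1 := hx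
            have hxN : (x : G) ∈ N := (QuotientGroup.eq_one_iff (x : G)).mp hx'
            have : (x : G) ∈ H ⊓ N := ⟨x.2, hxN⟩
            rw [hHN, Subgroup.mem_bot] at this
            exact Subtype.ext this
          exact (Nat.card_congr (MonoidHom.ofInjective hinj).toEquiv).symm
        have hKbar : (Nat.card (K.map (QuotientGroup.mk' N))).Coprime n' :=
          Nat.Coprime.coprime_dvd_right ⟨p ^ e, by rw [hn']; ring⟩
            (Nat.Coprime.coprime_dvd_left (Subgroup.card_map_dvd _ _) hK)
        obtain ⟨gb, hgb⟩ := hconj _ _ hHbar hKbar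
        obtain ⟨g, rfl⟩ := QuotientGroup.mk'_surjective N gb
        have hK1 : K ≤ (MulAut.conj g • H) ⊔ N := fun x hx =>
          mem_conj_sup_of_mk_mem N H g x (hgb (Subgroup.mem_map_of_mem _ hx))
        have hH1N : (MulAut.conj g • H) ⊓ N = ⊥ := by
          apply Subgroup.inf_eq_bot_of_coprime
          rw [card_conj_smul, hH, he]; exact hcopm
        have hKN : (Nat.card K).Coprime (Nat.card N) := by
          rw [he]
          exact Nat.Coprime.coprime_dvd_right ⟨n', hn'⟩ hK
        obtain ⟨a, _, ha⟩ := exists_conj_le_of_abelian_normal N (MulAut.conj g • H) K hK1 hH1N hKN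
        refine ⟨a * g, ?_⟩
        rwa [map_mul, mul_smul]

/-- Hall existence. -/
theorem hall_exists {G : Type u} [Group G] [Finite G] [Group.IsSolvable G] (m n : ℕ)
    (hG : Nat.card G = m * n) (hmn : m.Coprime n) : ∃ H : Subgroup G, Nat.card H = m :=
  (hall_main _ G rfl m n hG hmn).1

/-- Hall conjugacy. -/
theorem hall_conj {G : Type u} [Group G] [Finite G] [Group.IsSolvable G] (m n : ℕ)
    (hG : Nat.card G = m * n) (hmn : m.Coprime n) (H K : Subgroup G)
    (hH : Nat.card H = m) (hK : Nat.card K = m) : ∃ g : G, MulAut.conj g • H = K := by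
  obtain ⟨g, hg⟩ := (hall_main _ G rfl m n hG hmn).2 H K hH (by rw [hK]; exact hmn)
  refine ⟨g, ?_⟩
  have hcard : Nat.card (MulAut.conj g • H : Subgroup G) = Nat.card K := by
    rw [card_conj_smul, hH, hK]
  exact (Subgroup.eq_of_le_of_card_ge hg hcard.le).symm

/-- Hall containment. -/
theorem hall_le {G : Type u} [Group G] [Finite G] [Group.IsSolvable G] (m n : ℕ)
    (hG : Nat.card G = m * n) (hmn : m.Coprime n) (K : Subgroup G) (hK : (Nat.card K).Coprime n) :
    ∃ H : Subgroup G, Nat.card H = m ∧ K ≤ H := by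
  obtain ⟨H, hH⟩ := (hall_main _ G rfl m n hG hmn).1
  obtain ⟨g, hg⟩ := (hall_main _ G rfl m n hG hmn).2 H K hH hK
  exact ⟨MulAut.conj g • H, by rw [card_conj_smul, hH], hg⟩

end Cfsg.Agent.Lib
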