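/-
Shared library (lead): nilpotent groups.
-/
import Mathlib

set_option autoImplicit false

namespace Cfsg.Agent.Lib

open scoped commutatorElement

/-- A nontrivial normal subgroup of a nilpotent group meets the centre nontrivially. -/
theorem normal_inf_center_ne_bot {G : Type*} [Group G] [Group.IsNilpotent G]
    (H : Subgroup G) [hH : H.Normal] (hne : H ≠ ⊥) : H ⊓ Subgroup.center G ≠ ⊥ := by
  classical
  obtain ⟨N, hN⟩ := Group.IsNilpotent.nilpotent G
  have hex : ∃ n, H ⊓ Subgroup.upperCentralSeries G n ≠ ⊥ := ⟨N, by rw [hN, inf_top_eq]; exact hne⟩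
  have hn0 : Nat.find hex ≠ 0 := by
    intro h0
    have := Nat.find_spec hex
    rw [h0, Subgroup.upperCentralSeries_zero, inf_bot_eq] at this
    exact this rfl
  obtain ⟨k, hk⟩ := Nat.exists_eq_succ_of_ne_zero hn0
  have h1 : H ⊓ Subgroup.upperCentralSeries G (k + 1) ≠ ⊥ := by
    have := Nat.find_spec hex
    rwa [hk] at this
  have h2 : H ⊓ Subgroup.upperCentralSeries G k = ⊥ := by
    by_contra h
    exact Nat.find_min hex (by rw [hk]; exact Nat.lt_succ_self k) h
  intro hbot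
  apply h1
  rw [eq_bot_iff, ← hbot]
  intro x hx
  have hx1 : x ∈ H := (Subgroup.mem_inf.mp hx).1
  have hx2 : x ∈ Subgroup.upperCentralSeries G (k + 1) := (Subgroup.mem_inf.mp hx).2
  refine Subgroup.mem_inf.mpr ⟨hx1, ?_⟩
  rw [Subgroup.mem_center_iff]
  intro g
  have h3 : ⁅x, g⁆ ∈ Subgroup.upperCentralSeries G k :=
    (Subgroup.mem_upperCentralSeries_succ_iff.mp hx2) g
  have h4 : ⁅x, g⁆ ∈ H := by
    rw [commutatorElement_def]
    have : x * g * x⁻¹ * g⁻¹ = x * (g * x⁻¹ * g⁻¹) := by group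
    rw [this]
    exact H.mul_mem hx1 (hH.conj_mem _ (H.inv_mem hx1) g)
  have h5 : ⁅x, g⁆ ∈ H ⊓ Subgroup.upperCentralSeries G k := Subgroup.mem_inf.mpr ⟨h4, h3⟩
  rw [h2, Subgroup.mem_bot, commutatorElement_def] at h5
  -- x g x⁻¹ g⁻¹ = 1 → g x = x g
  have : x * g = g * x := by
    have h6 : x * g * x⁻¹ * g⁻¹ * (g * x) = g * x := by rw [h5, one_mul]
    rw [← h6]; group
  exact this.symm

end Cfsg.Agent.Lib
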