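import Cfsg.Agent.Lib.ZJ4
import Cfsg.Agent.Helper54.PConstrained
import Cfsg.Prelude.Def_Local

/-!
# From `IsPStable` (Gorenstein's form) to `IsPStableOn` on the quotient by `O_{p'}` (lead)
-/

set_option autoImplicit false

namespace Cfsg.Agent.Lib.ZJ

open Subgroup
open scoped commutatorElement

section quadratic

variable {G : Type*} [Group G]

/-- If `a` acts quadratically on `V` then `a ^ n * v * a ^ (-n) = ⁅a, v⁆ ^ n * v`. -/
theorem quadratic_conj_pow {V : Subgroup G} {a : G}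
    (hq : ⁅⁅V, zpowers a⁆, zpowers a⁆ = ⊥) {v : G} (hv : v ∈ V) (n : ℕ) :
    a ^ n * v * (a ^ n)⁻¹ = ⁅a, v⁆ ^ n * v := by
  have hc : ⁅a, v⁆ ∈ ⁅V, zpowers a⁆ := by
    rw [Subgroup.commutator_comm]
    exact Subgroup.commutator_mem_commutator (Subgroup.mem_zpowers a) hv
  have hcomm : ⁅a, v⁆ * a = a * ⁅a, v⁆ := by
    have h1 : ⁅⁅a, v⁆, a⁆ ∈ ⁅⁅V, zpowers a⁆, zpowers a⁆ :=
      Subgroup.commutator_mem_commutator hc (Subgroup.mem_zpowers a)
    rw [hq, Subgroup.mem_bot, commutatorElement_eq_one_iff_mul_comm] at h1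
    exact h1
  induction n with
  | zero => simp
  | succ n ih =>
    have h2 : a * v * a⁻¹ = ⁅a, v⁆ * v := by rw [commutatorElement_def]; group
    have hcn : ⁅a, v⁆ ^ n * a = a * ⁅a, v⁆ ^ n := by
      have : Commute (⁅a, v⁆) a := hcomm
      exact (this.pow_left n).eq
    calc a ^ (n + 1) * v * (a ^ (n + 1))⁻¹ = a * (a ^ n * v * (a ^ n)⁻¹) * a⁻¹ := by
          rw [pow_succ']; group
      _ = a * (⁅a, v⁆ ^ n * v) * a⁻¹ := by rw [ih]
      _ = (a * ⁅a, v⁆ ^ n) * (v * a⁻¹) := by group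
      _ = (⁅a, v⁆ ^ n * a) * (v * a⁻¹) := by rw [hcn]
      _ = ⁅a, v⁆ ^ n * (a * v * a⁻¹) := by group
      _ = ⁅a, v⁆ ^ n * (⁅a, v⁆ * v) := by rw [h2]
      _ = ⁅a, v⁆ ^ (n + 1) * v := by rw [pow_succ]; group

/-- An element acting quadratically on a finite normal subgroup `V` has its `|V|`-th power in `C_G(V)`. -/
theorem quadratic_pow_card_mem_centralizer {V : Subgroup G} [V.Normal] [Finite V] {a : G}
    (hq : ⁅⁅V, zpowers a⁆, zpowers a⁆ = ⊥) :
    a ^ Nat.card V ∈ centralizer (V : Set G) := by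
  rw [Subgroup.mem_centralizer_iff]
  intro v hv
  have h1 := quadratic_conj_pow hq hv (Nat.card V)
  have hc : ⁅a, v⁆ ∈ V := by
    rw [commutatorElement_def]
    exact V.mul_mem (Subgroup.Normal.conj_mem inferInstance v hv a) (V.inv_mem hv)
  have h2 : ⁅a, v⁆ ^ Nat.card V = 1 := by
    have := pow_card_eq_one' (G := V) (x := ⟨⁅a, v⁆, hc⟩)
    exact congrArg Subtype.val this
  rw [h2, one_mul] at h1
  calc v * a ^ Nat.card V = (a ^ Nat.card V * v * (a ^ Nat.card V)⁻¹) * a ^ Nat.card V := by rw [h1]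
    _ = a ^ Nat.card V * v := by group

end quadratic

section pelement

variable {G : Type*} [Group G]

/-- If `a ^ (p ^ k)` lies in the subgroup `C` and `a` has finite order, some `p`-element `b` in `⟨a⟩` is
congruent to `a` modulo `C`. -/
theorem exists_pElement_of_pow_mem {p : ℕ} [hp : Fact p.Prime] {a : G} (ha : IsOfFinOrder a)
    {C : Subgroup G} {k : ℕ} (hk : a ^ (p ^ k) ∈ C) :
    ∃ b ∈ zpowers a, (∃ j : ℕ, b ^ (p ^ j) = 1) ∧ b⁻¹ * a ∈ C := by
  have hn0 : orderOf a ≠ 0 := (orderOf_pos_iff.2 ha).ne'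
  obtain ⟨j, m, hm, hn⟩ := Nat.exists_eq_pow_mul_and_not_dvd hn0 p hp.out.ne_one
  have hcop : Nat.Coprime m (p ^ k) :=
    Nat.Coprime.pow_right k ((Nat.Prime.coprime_iff_not_dvd hp.out).2 hm).symm
  -- Bezout
  have hb : (m : ℤ) * Nat.gcdA m (p ^ k) + ((p ^ k : ℕ) : ℤ) * Nat.gcdB m (p ^ k) = 1 := by
    have := Nat.gcd_eq_gcd_ab m (p ^ k)
    rw [hcop] at this
    simpa using this.symm
  set u := Nat.gcdA m (p ^ k) with hu
  set v := Nat.gcdB m (p ^ k) with hv
  refine ⟨a ^ ((m : ℤ) * u), Subgroup.zpow_mem_zpowers a _, ⟨j, ?_⟩, ?_⟩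
  · rw [← zpow_natCast, ← zpow_mul]
    have : (m : ℤ) * u * ((p ^ j : ℕ) : ℤ) = ((orderOf a : ℕ) : ℤ) * u := by
      rw [hn]; push_cast; ring
    rw [this, zpow_mul, zpow_natCast, pow_orderOf_eq_one, one_zpow]
  · have h1 : (a ^ ((m : ℤ) * u))⁻¹ * a = (a ^ (p ^ k)) ^ v := by
      rw [← zpow_natCast, ← zpow_mul, ← zpow_neg]
      nth_rewrite 2 [← zpow_one a]
      rw [← zpow_add]
      congr 1
      linarith
    rw [h1]
    exact C.zpow_mem hk v

end pelement

section lift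

variable {G : Type*} [Group G] {H : Type*} [Group H]

/-- A `p`-subgroup of the image of a surjective homomorphism from a finite group is the image of a
`p`-subgroup. -/
theorem exists_isPGroup_map_eq [Finite G] {p : ℕ} [Fact p.Prime] (π : G →* H)
    (hπ : Function.Surjective π) (Y : Subgroup H) (hY : IsPGroup p Y) :
    ∃ A : Subgroup G, IsPGroup p A ∧ A.map π = Y := by
  let f : ↥(Y.comap π) →* ↥Y := π.subgroupComap Y
  have hf : Function.Surjective f := MonoidHom.subgroupComap_surjective_of_surjective _ _ hπ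
  obtain ⟨Q⟩ : Nonempty (Sylow p ↥(Y.comap π)) := Sylow.nonempty
  have htop : ((Q.mapSurjective hf : Sylow p ↥Y) : Subgroup ↥Y) = ⊤ := by
    have hT : IsPGroup p (⊤ : Subgroup ↥Y) := hY.to_subgroup ⊤
    exact ((Q.mapSurjective hf).3 hT le_top).symm
  refine ⟨(Q : Subgroup ↥(Y.comap π)).map (Y.comap π).subtype, Q.2.map _, ?_⟩
  apply le_antisymm
  · rintro _ ⟨_, ⟨y, -, rfl⟩, rfl⟩
    exact y.2
  · intro x hx
    have hx' : (⟨x, hx⟩ : ↥Y) ∈ ((Q.mapSurjective hf : Sylow p ↥Y) : Subgroup ↥Y) := by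
      rw [htop]; exact Subgroup.mem_top _
    rw [Sylow.coe_mapSurjective] at hx'
    obtain ⟨y, hy, hyx⟩ := hx'
    refine ⟨(y : G), ⟨y, hy, rfl⟩, ?_⟩
    exact congrArg Subtype.val hyx

end lift

section transfer

variable {G : Type*} [Group G] {H : Type*} [Group H]

/-- Transfer of membership in `O_p(N_G(P)/C_G(P))` to `O_p(H / C_H(π P))` when `N_G(P)` maps onto `H`. -/
theorem mem_pCore_quotient_centralizer_map {p : ℕ} (π : G →* H) (P : Subgroup G)
    (Pb : Subgroup H) [hn : Pb.Normal] (hPb : P.map π = Pb)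
    (hsurj : ∀ h : H, ∃ g ∈ normalizer (P : Set G), π g = h)
    (a : G) (ha : a ∈ normalizer (P : Set G))
    (hmem : (QuotientGroup.mk (s := (centralizer (P : Set G)).subgroupOf (normalizer (P : Set G)))
        (⟨a, ha⟩ : ↥(normalizer (P : Set G)))) ∈
      Cfsg.pCore p (↥(normalizer (P : Set G)) ⧸
        (centralizer (P : Set G)).subgroupOf (normalizer (P : Set G)))) :
    (QuotientGroup.mk (π a) : H ⧸ centralizer (Pb : Set H)) ∈
      Cfsg.pCore p (H ⧸ centralizer (Pb : Set H)) := by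
  subst hPb
  set N := normalizer (P : Set G) with hN
  set C := centralizer (P : Set G) with hC
  set Cb := centralizer ((P.map π : Subgroup H) : Set H) with hCb
  let φ : ↥N →* H ⧸ Cb := (QuotientGroup.mk' Cb).comp (π.comp N.subtype)
  have hker : C.subgroupOf N ≤ φ.ker := by
    rintro ⟨c, hcN⟩ hc
    rw [Subgroup.mem_subgroupOf] at hc
    rw [MonoidHom.mem_ker]
    show (QuotientGroup.mk' Cb) (π c) = 1
    rw [QuotientGroup.mk'_apply, QuotientGroup.eq_one_iff, hCb, Subgroup.mem_centralizer_iff]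
    rintro _ ⟨x, hx, rfl⟩
    rw [← map_mul, ← map_mul, (Subgroup.mem_centralizer_iff.1 hc) x hx]
  let φb : ↥N ⧸ C.subgroupOf N →* H ⧸ Cb := QuotientGroup.lift (C.subgroupOf N) φ hker
  have hφb : Function.Surjective φb := by
    intro q
    obtain ⟨h, rfl⟩ := QuotientGroup.mk'_surjective Cb q
    obtain ⟨g, hg, rfl⟩ := hsurj h
    exact ⟨QuotientGroup.mk (⟨g, hg⟩ : ↥N), rfl⟩
  have hpn : (Cfsg.pCore p (↥N ⧸ C.subgroupOf N)).Normal := by
    have := pCore_characteristic (G := ↥N ⧸ C.subgroupOf N) p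
    infer_instance
  have hle : (Cfsg.pCore p (↥N ⧸ C.subgroupOf N)).map φb ≤ Cfsg.pCore p (H ⧸ Cb) :=
    le_pCore (Subgroup.Normal.map hpn _ hφb) ((isPGroup_pCore p).map _)
  exact hle ⟨_, hmem, rfl⟩

end transfer

section stable

variable {G : Type*} [Group G] [Finite G] {p : ℕ} [hp : Fact p.Prime]

/-- Gorenstein's `p`-stability of `G` gives `p`-stability of `G / O_{p'}(G)` on each of its normal
`p`-subgroups. -/
theorem isPStableOn_quotient_of_isPStable (hs : Cfsg.IsPStable p G)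
    (Pb : Subgroup (G ⧸ Cfsg.pPrimeCore p G)) [hPbn : Pb.Normal] (hPb : IsPGroup p Pb) :
    Cfsg.IsPStableOn p Pb := by
  set K := Cfsg.pPrimeCore p G with hK
  intro ab hq
  set π := QuotientGroup.mk' K with hπ
  have hπs : Function.Surjective π := QuotientGroup.mk'_surjective K
  have hker : π.ker = K := QuotientGroup.ker_mk' K
  have hKc : (Nat.card K).Coprime p := card_pPrimeCore_coprime p
  set Cb := centralizer (Pb : Set (G ⧸ K)) with hCb
  -- a `p`-element `b` congruent to `ab` modulo `Cb`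
  have h1 : ab ^ Nat.card Pb ∈ Cb := quadratic_pow_card_mem_centralizer hq
  obtain ⟨k, hk⟩ := IsPGroup.iff_card.1 hPb
  rw [hk] at h1
  obtain ⟨b, hbz, ⟨j, hbj⟩, hab⟩ := exists_pElement_of_pow_mem (isOfFinOrder_of_finite ab) h1
  have hYp : IsPGroup p (zpowers b) := by
    rintro ⟨y, hy⟩
    obtain ⟨z, rfl⟩ := Subgroup.mem_zpowers_iff.1 hy
    refine ⟨j, Subtype.ext ?_⟩
    show (b ^ z) ^ p ^ j = 1
    rw [← zpow_natCast, ← zpow_mul, mul_comm, zpow_mul, zpow_natCast, hbj, one_zpow]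
  have hbab : zpowers b ≤ zpowers ab := (Subgroup.zpowers_le).2 hbz
  obtain ⟨A, hAp, hAmap⟩ := exists_isPGroup_map_eq π hπs (zpowers b) hYp
  obtain ⟨T, hAT⟩ := hAp.exists_le_sylow
  set P0 := Pb.comap π with hP0
  have hP0n : P0.Normal := Subgroup.Normal.comap hPbn π
  set P := (T : Subgroup G) ⊓ P0 with hP
  have hPp : IsPGroup p P := T.2.to_le inf_le_left
  have hnorm : ∀ a ∈ A, ∀ x ∈ P, a * x * a⁻¹ ∈ P := fun a ha x hx =>
    ⟨(T : Subgroup G).mul_mem ((T : Subgroup G).mul_mem (hAT ha) hx.1)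
      ((T : Subgroup G).inv_mem (hAT ha)), hP0n.conj_mem x hx.2 a⟩
  have hPble : Pb ≤ Cfsg.pCore p (G ⧸ K) := le_pCore hPbn hPb
  have hPle : P ≤ Cfsg.pPrimePCore p G := fun x hx => hPble hx.2
  have hPmap : P.map π = Pb := by
    apply le_antisymm
    · rintro _ ⟨x, hx, rfl⟩
      exact hx.2
    · intro xb hxb
      have h2 : xb ∈ ((T.mapSurjective hπs : Sylow p (G ⧸ K)) : Subgroup (G ⧸ K)) :=
        pCore_le_sylow _ (hPble hxb)
      rw [Sylow.coe_mapSurjective] at h2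
      obtain ⟨t, ht, rfl⟩ := h2
      exact ⟨t, ⟨ht, hxb⟩, rfl⟩
  have hKP : K ⊔ P = P0 := by
    rw [sup_comm, ← hker, ← Subgroup.comap_map_eq, hPmap]
  have hKPn : (K ⊔ P).Normal := by rw [hKP]; exact hP0n
  have hPA : ⁅P, A⁆ ≤ P := by
    rw [Subgroup.commutator_le]
    intro x hx a ha
    rw [commutatorElement_def]
    have := hnorm a ha x⁻¹ (P.inv_mem hx)
    have h3 : x * a * x⁻¹ * a⁻¹ = x * (a * x⁻¹ * a⁻¹) := by group
    rw [h3]
    exact P.mul_mem hx this
  have hdisj : P ⊓ K = ⊥ := by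
    apply (Subgroup.disjoint_of_coprime_natCard _).eq_bot
    obtain ⟨n, hn⟩ := IsPGroup.iff_card.1 hPp
    rw [hn]
    exact (Nat.Coprime.pow_right n hKc).symm
  have hquad : ⁅⁅P, A⁆, A⁆ = ⊥ := by
    rw [eq_bot_iff, ← hdisj]
    refine le_inf ((Subgroup.commutator_mono hPA le_rfl).trans hPA) ?_
    rw [← hker, ← Subgroup.map_eq_bot_iff, Subgroup.map_commutator, Subgroup.map_commutator, hPmap,
      hAmap, eq_bot_iff, ← hq]
    exact Subgroup.commutator_mono (Subgroup.commutator_mono le_rfl hbab) hbab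
  have hstab := hs.2.2 A P hAp hPp hnorm hPle hKPn hquad
  -- a preimage of `b` in `A`
  have hbA : b ∈ A.map π := by rw [hAmap]; exact Subgroup.mem_zpowers b
  obtain ⟨a', ha'A, ha'b⟩ := hbA
  have ha'N : a' ∈ normalizer (P : Set G) := by
    apply Subgroup.mem_normalizer_fintype
    intro x hx
    exact hnorm a' ha'A x hx
  have hsurj : ∀ h : G ⧸ K, ∃ g ∈ normalizer (P : Set G), π g = h := by
    intro h
    obtain ⟨x, rfl⟩ := hπs h
    have hx : π x ∈ normalizer ((P.map π : Subgroup (G ⧸ K)) : Set (G ⧸ K)) := by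
      rw [hPmap, Subgroup.normalizer_eq_top]
      exact Subgroup.mem_top _
    exact Cfsg.Agent.Helper54.exists_mem_normalizer_map_eq π (by rw [hker]; exact hKc) P hPp x hx
  have hmem : (QuotientGroup.mk (s := (centralizer (P : Set G)).subgroupOf (normalizer (P : Set G)))
        (⟨a', ha'N⟩ : ↥(normalizer (P : Set G)))) ∈
      Cfsg.pCore p (↥(normalizer (P : Set G)) ⧸
        (centralizer (P : Set G)).subgroupOf (normalizer (P : Set G))) := by
    apply hstab
    exact ⟨⟨a', ha'N⟩, Subgroup.mem_subgroupOf.2 ha'A, rfl⟩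
  have hfin := mem_pCore_quotient_centralizer_map π P Pb hPmap hsurj a' ha'N hmem
  rw [ha'b] at hfin
  have heq : (QuotientGroup.mk b : (G ⧸ K) ⧸ Cb) = QuotientGroup.mk ab := QuotientGroup.eq.2 hab
  rw [← heq]
  exact hfin

end stable

end Cfsg.Agent.Lib.ZJ
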