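import Cfsg.Agent.Lib.ZJ3

/-!
# Glauberman's ZJ-theorem for `Z(J(S))` (abelian version) and `Ω₁(Z(J(S)))` (elementary version) (lead)

`zj_characteristic_abelian` and `zj_characteristic_elementary` take the replacement property in the
exact shape of statements S0651 / S0652 (with `D = ⊤`) as a hypothesis.
-/

set_option autoImplicit false

namespace Cfsg.Agent.Lib.ZJ

open Subgroup

universe u

theorem isMulCommutative_iff {K : Type*} [Group K] (A : Subgroup K) :
    IsMulCommutative A ↔ ∀ x ∈ A, ∀ y ∈ A, x * y = y * x := by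
  constructor
  · intro h x hx y hy
    have := mul_comm' (⟨x, hx⟩ : A) ⟨y, hy⟩
    exact congrArg Subtype.val this
  · intro h
    exact ⟨⟨fun a b => Subtype.ext (h a a.2 b b.2)⟩⟩

/-- "abelian" as an intrinsic property -/
def goodComm : ∀ (K : Type u) [Group K], Subgroup K → Prop := fun _ _ A => IsMulCommutative A

/-- "elementary abelian" as an intrinsic property -/
def goodElem (p : ℕ) : ∀ (K : Type u) [Group K], Subgroup K → Prop :=
  fun _ _ A => Cfsg.IsElementaryAbelian p A

theorem comm_map_iff {H K : Type*} [Group H] [Group K] (f : H →* K) (hf : Function.Injective f)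
    (A : Subgroup H) :
    (∀ x ∈ A.map f, ∀ y ∈ A.map f, x * y = y * x) ↔ ∀ x ∈ A, ∀ y ∈ A, x * y = y * x := by
  constructor
  · intro h x hx y hy
    apply hf
    rw [map_mul, map_mul]
    exact h _ (Subgroup.mem_map_of_mem f hx) _ (Subgroup.mem_map_of_mem f hy)
  · rintro h _ ⟨a, ha, rfl⟩ _ ⟨b, hb, rfl⟩
    rw [← map_mul, ← map_mul, h a ha b hb]

theorem intrinsic_comm : Intrinsic goodComm.{u} where
  map_iff := by
    intro H K _ _ f hf A
    unfold goodComm
    rw [isMulCommutative_iff, isMulCommutative_iff]
    exact comm_map_iff f hf A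
  comm := by
    intro K _ A hA
    exact (isMulCommutative_iff A).1 hA
  bot := by
    intro K _
    unfold goodComm
    rw [isMulCommutative_iff]
    intro x hx y hy
    rw [Subgroup.mem_bot] at hx hy
    rw [hx, hy]

theorem intrinsic_elem (p : ℕ) : Intrinsic (goodElem.{u} p) where
  map_iff := by
    intro H K _ _ f hf A
    unfold goodElem Cfsg.IsElementaryAbelian
    rw [isMulCommutative_iff, isMulCommutative_iff, comm_map_iff f hf A]
    refine and_congr Iff.rfl ?_
    constructor
    · intro h a ha
      apply hf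
      rw [map_pow, map_one]
      exact h _ (Subgroup.mem_map_of_mem f ha)
    · rintro h _ ⟨a, ha, rfl⟩
      rw [← map_pow, h a ha, map_one]
  comm := by
    intro K _ A hA
    exact (isMulCommutative_iff A).1 hA.1
  bot := by
    intro K _
    unfold goodElem Cfsg.IsElementaryAbelian
    rw [isMulCommutative_iff]
    refine ⟨?_, ?_⟩
    · intro x hx y hy
      rw [Subgroup.mem_bot] at hx hy
      rw [hx, hy]
    · intro a ha
      rw [Subgroup.mem_bot] at ha
      rw [ha, one_pow]

theorem maxGoodT_comm (K : Type u) [Group K] : maxGoodT goodComm K = Cfsg.maxAbelianSubgroups K := rfl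

theorem maxGoodT_elem (p : ℕ) (K : Type u) [Group K] :
    maxGoodT (goodElem p) K = Cfsg.maxElementaryAbelianSubgroups p K := rfl

/-- In `G`: the centre of the join of the abelian subgroups of `S` of largest order is their intersection. -/
theorem sSup_inf_centralizer_eq_sInf {G : Type u} [Group G] [Finite G] (S : Subgroup G)
    (hne : (maxGood (goodComm G) S).Nonempty) :
    sSup (maxGood (goodComm G) S) ⊓
        centralizer ((sSup (maxGood (goodComm G) S) : Subgroup G) : Set G) =
      sInf (maxGood (goodComm G) S) := by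
  set F := maxGood (goodComm G) S with hF
  have hJS : sSup F ≤ S := sSup_le fun A hA => hA.1
  apply le_antisymm
  · intro x hx
    rw [Subgroup.mem_sInf]
    intro A hA
    have hAc : ∀ u ∈ A, ∀ v ∈ A, u * v = v * u := (isMulCommutative_iff A).1 hA.2.1
    have hxA : x ∈ centralizer (A : Set G) :=
      Subgroup.centralizer_le (show (A : Set G) ⊆ (sSup F : Subgroup G) from le_sSup hA) hx.2
    have hzA : zpowers x ≤ centralizer (A : Set G) := (Subgroup.zpowers_le).2 hxA
    have hAA : A ≤ centralizer (A : Set G) := by
      intro u hu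
      rw [Subgroup.mem_centralizer_iff]
      intro v hv
      exact hAc v hv u hu
    have hzz : zpowers x ≤ centralizer ((zpowers x : Subgroup G) : Set G) := by
      intro u hu
      rw [Subgroup.mem_centralizer_iff]
      intro v hv
      obtain ⟨i, rfl⟩ := Subgroup.mem_zpowers_iff.1 hu
      obtain ⟨j, rfl⟩ := Subgroup.mem_zpowers_iff.1 hv
      rw [← zpow_add, ← zpow_add, add_comm]
    set K := A ⊔ zpowers x with hK
    have hKc : K ≤ centralizer (K : Set G) := by
      apply sup_le
      · rw [Subgroup.le_centralizer_iff]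
        exact sup_le hAA hzA
      · rw [Subgroup.le_centralizer_iff]
        exact sup_le (Subgroup.le_centralizer_iff.1 hzA) hzz
    have hKgood : goodComm G K := by
      unfold goodComm
      rw [isMulCommutative_iff]
      intro u hu v hv
      have := hKc hv
      rw [Subgroup.mem_centralizer_iff] at this
      exact this u hu
    have hKS : K ≤ S := sup_le hA.1 ((Subgroup.zpowers_le).2 (hJS hx.1))
    have hcard := hA.2.2 K hKS hKgood
    have hAK : A = K := Subgroup.eq_of_le_of_card_ge le_sup_left hcard
    rw [hAK]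
    exact (le_sup_right : zpowers x ≤ K) (Subgroup.mem_zpowers x)
  · intro x hx
    rw [Subgroup.mem_sInf] at hx
    obtain ⟨A0, hA0⟩ := hne
    refine ⟨(le_sSup hA0 : A0 ≤ sSup F) (hx A0 hA0), ?_⟩
    have h1 : sSup F ≤ centralizer ((zpowers x : Subgroup G) : Set G) := by
      apply sSup_le
      intro A hA
      rw [Subgroup.le_centralizer_iff, Subgroup.zpowers_le, Subgroup.mem_centralizer_iff]
      intro v hv
      exact (isMulCommutative_iff A).1 hA.2.1 v hv x (hx A hA)
    have h2 := Subgroup.le_centralizer_iff.1 h1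
    exact h2 (Subgroup.mem_zpowers x)

theorem centerThompsonAOf_eq_sInf {G : Type u} [Group G] [Finite G] (S : Subgroup G) :
    Cfsg.centerThompsonAOf S = sInf (maxGood (goodComm G) S) := by
  have hfam : maxGood (goodComm G) S =
      Set.image (fun A : Subgroup ↥S => A.map S.subtype) (Cfsg.maxAbelianSubgroups ↥S) := by
    rw [← maxGoodT_comm, image_map_subtype_maxGoodT intrinsic_comm]
  have hne : (maxGood (goodComm G) S).Nonempty := by
    rw [hfam, ← maxGoodT_comm]
    exact (maxGoodT_nonempty intrinsic_comm).image _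
  have hJ : Cfsg.thompsonSubgroupAOf S = sSup (maxGood (goodComm G) S) := by
    unfold Cfsg.thompsonSubgroupAOf Cfsg.thompsonSubgroupA
    rw [map_sSup', hfam]
  unfold Cfsg.centerThompsonAOf
  rw [hJ]
  exact sSup_inf_centralizer_eq_sInf S hne

/-- **Glauberman's ZJ-theorem** (abelian version of the Thompson subgroup), assuming the replacement
property in the shape of statement S0651 with `D = ⊤`. -/
theorem zj_characteristic_abelian {G : Type u} [Group G] [Finite G] {p : ℕ} [Fact p.Prime]
    (hrepl : ∀ S : Sylow p G, ReplTop goodComm ↥(S : Subgroup G))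
    (hc : centralizer (Cfsg.pCore p G : Set G) ≤ Cfsg.pCore p G)
    (hst : ∀ (P : Subgroup G) [P.Normal], IsPGroup p P → Cfsg.IsPStableOn p P) (S : Sylow p G) :
    (Cfsg.centerThompsonAOf (S : Subgroup G)).Characteristic := by
  have hH : ∀ S' : Sylow p G, Hyp (goodComm G) S' :=
    fun S' => hyp_of_replTop intrinsic_comm S' (hrepl S')
  have hn : ∀ S' : Sylow p G, (sInf (maxGood (goodComm G) (S' : Subgroup G))).Normal :=
    fun S' => sInf_normal (hH S') hst hc
  rw [centerThompsonAOf_eq_sInf]
  exact sInf_characteristic intrinsic_comm (fun S' => (hH S').nonempty) hn S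

theorem zj_normal_abelian {G : Type u} [Group G] [Finite G] {p : ℕ} [Fact p.Prime]
    (hrepl : ∀ S : Sylow p G, ReplTop goodComm ↥(S : Subgroup G))
    (hc : centralizer (Cfsg.pCore p G : Set G) ≤ Cfsg.pCore p G)
    (hst : ∀ (P : Subgroup G) [P.Normal], IsPGroup p P → Cfsg.IsPStableOn p P) (S : Sylow p G) :
    (Cfsg.centerThompsonAOf (S : Subgroup G)).Normal := by
  have := zj_characteristic_abelian hrepl hc hst S
  exact Subgroup.normal_of_characteristic _

theorem map_omegaCenterThompson_eq_sInf {G : Type u} [Group G] [Finite G] {p : ℕ} (S : Subgroup G)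
    (hΩ : sInf (Cfsg.maxElementaryAbelianSubgroups p ↥S) = Cfsg.omegaCenterThompson p ↥S) :
    (Cfsg.omegaCenterThompson p ↥S).map S.subtype = sInf (maxGood (goodElem p G) S) := by
  have hfam : maxGood (goodElem p G) S =
      Set.image (fun A : Subgroup ↥S => A.map S.subtype) (Cfsg.maxElementaryAbelianSubgroups p ↥S) := by
    rw [← maxGoodT_elem, image_map_subtype_maxGoodT (intrinsic_elem p)]
  have hne : (Cfsg.maxElementaryAbelianSubgroups p ↥S).Nonempty := by
    rw [← maxGoodT_elem]
    exact maxGoodT_nonempty (intrinsic_elem p)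
  rw [← hΩ, hfam, map_sInf_of_injective _ S.subtype_injective hne]

/-- **Glauberman's ZJ-theorem** for `Ω₁(Z(J(S)))` (elementary abelian version), assuming the
replacement property in the shape of statement S0652 with `D = ⊤` and the identification S0655. -/
theorem zj_characteristic_elementary {G : Type u} [Group G] [Finite G] {p : ℕ} [Fact p.Prime]
    (hrepl : ∀ S : Sylow p G, ReplTop (goodElem p) ↥(S : Subgroup G))
    (hΩ : ∀ S : Sylow p G, sInf (Cfsg.maxElementaryAbelianSubgroups p ↥(S : Subgroup G)) =
      Cfsg.omegaCenterThompson p ↥(S : Subgroup G))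
    (hc : centralizer (Cfsg.pCore p G : Set G) ≤ Cfsg.pCore p G)
    (hst : ∀ (P : Subgroup G) [P.Normal], IsPGroup p P → Cfsg.IsPStableOn p P) (S : Sylow p G) :
    ((Cfsg.omegaCenterThompson p ↥(S : Subgroup G)).map (S : Subgroup G).subtype).Characteristic := by
  have hH : ∀ S' : Sylow p G, Hyp (goodElem p G) S' :=
    fun S' => hyp_of_replTop (intrinsic_elem p) S' (hrepl S')
  have hn : ∀ S' : Sylow p G, (sInf (maxGood (goodElem p G) (S' : Subgroup G))).Normal :=
    fun S' => sInf_normal (hH S') hst hc
  rw [map_omegaCenterThompson_eq_sInf _ (hΩ S)]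
  exact sInf_characteristic (intrinsic_elem p) (fun S' => (hH S').nonempty) hn S

end Cfsg.Agent.Lib.ZJ
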