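import Cfsg.Agent.Helper79.Linear
import Cfsg.Agent.Helper78.Kernel

/-!
# Burnside's `p^a q^b` theorem (lead)

* `Cfsg.Agent.Lib.not_isSimpleGroup_of_index_centralizer_eq_prime_pow`: a finite group with a
  conjugacy class of size `p ^ k`, `k ≠ 0`, is not simple.
* `Cfsg.Agent.Lib.isSolvable_of_prime_dvd_card`: a finite group all of whose prime divisors are
  `p` or `q` is solvable.
* `Cfsg.Agent.Lib.burnside_pq`: a group of order `p ^ a * q ^ b` is solvable.
-/

set_option autoImplicit false

open Cfsg
open scoped ComplexConjugate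

namespace Cfsg.Agent.Lib

/-- A quotient of naturals in `ℂ` that is an algebraic integer forces divisibility. -/
theorem dvd_of_isIntegral_natDiv {a b : ℕ} (hb : b ≠ 0) (h : IsIntegral ℤ ((a : ℂ) / (b : ℂ))) :
    b ∣ a := by
  have h1 : ((a : ℂ) / (b : ℂ)) = algebraMap ℚ ℂ ((a : ℚ) / (b : ℚ)) := by simp
  rw [h1, isIntegral_algebraMap_iff (algebraMap ℚ ℂ).injective] at h
  obtain ⟨m, hm⟩ := IsIntegrallyClosed.algebraMap_eq_of_integral h
  have hbq : (b : ℚ) ≠ 0 := by exact_mod_cast hb
  have h2 : (a : ℚ) = (m : ℚ) * (b : ℚ) := by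
    have : (m : ℚ) = (a : ℚ) / (b : ℚ) := by simpa using hm
    rw [this]; field_simp
  have h3 : (a : ℤ) = m * (b : ℤ) := by exact_mod_cast h2
  have h4 : (b : ℤ) ∣ (a : ℤ) := ⟨m, by rw [h3, mul_comm]⟩
  exact_mod_cast h4

/-- `1 / p` is not an algebraic integer. -/
theorem not_isIntegral_inv_prime {p : ℕ} (hp : p.Prime) : ¬ IsIntegral ℤ ((p : ℂ)⁻¹) := by
  intro h
  have h2 : IsIntegral ℤ (((1 : ℕ) : ℂ) / (p : ℂ)) := by
    simpa using h
  have := dvd_of_isIntegral_natDiv hp.ne_zero h2
  exact hp.one_lt.ne' (Nat.dvd_one.1 this)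

section step1

variable {G : Type*} [Group G] [Finite G]

/-- Key dichotomy: in a simple group, for an element `g` whose class has size `p ^ k` with
`k ≠ 0`, every non-principal irreducible character has degree divisible by `p` or vanishes
at `g`. -/
theorem irr_dvd_or_eq_zero_of_simple [IsSimpleGroup G] {p k : ℕ} (hp : p.Prime) (hk : k ≠ 0)
    (g : G) (hg : (Subgroup.centralizer ({g} : Set G)).index = p ^ k)
    (χ : IrrCharacter G) (hχ : χ ≠ Helper79.principalIrr G) :
    p ∣ charDegree (χ : G → ℂ) ∨ (χ : G → ℂ) g = 0 := by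
  by_cases hdvd : p ∣ charDegree (χ : G → ℂ)
  · exact Or.inl hdvd
  right
  have hcop : Nat.Coprime (Subgroup.centralizer ({g} : Set G)).index (charDegree (χ : G → ℂ)) := by
    rw [hg]
    exact Nat.Coprime.pow_left k ((Nat.Prime.coprime_iff_not_dvd hp).2 hdvd)
  rcases Helper78.irrChar_eq_zero_or_central_of_coprime χ.2 g hcop with h0 | hc
  · exact h0
  exfalso
  obtain ⟨χf, n, ρ, hρ, rfl⟩ := χ
  have := hρ
  -- the kernel of ρ
  let N : Subgroup G := (ρ : G →* Module.End ℂ (Fin n → ℂ)).ker
  have hN : N.Normal := inferInstance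
  have hmem : ∀ h : G, g * h * g⁻¹ * h⁻¹ ∈ N := by
    intro h
    rw [MonoidHom.mem_ker]
    exact Helper78.rep_eq_one_of_character_eq ρ _ (hc h)
  rcases hN.eq_bot_or_eq_top with hbot | htop
  · -- g is central
    have hcent : Subgroup.centralizer ({g} : Set G) = ⊤ := by
      rw [eq_top_iff]
      intro h _
      rw [Subgroup.mem_centralizer_iff]
      intro y hy
      rw [Set.mem_singleton_iff] at hy
      subst hy
      have := hmem h
      rw [hbot, Subgroup.mem_bot] at this
      -- y * h * y⁻¹ * h⁻¹ = 1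
      have h2 : y * h = h * y := by
        have h3 : y * h * y⁻¹ * h⁻¹ * (h * y) = h * y := by rw [this, one_mul]
        rw [← h3]; group
      exact h2
    rw [hcent, Subgroup.index_top] at hg
    have : 1 < p ^ k := Nat.one_lt_pow hk hp.one_lt
    omega
  · -- ρ is trivial, so χ is principal
    have hall : ∀ x : G, ρ x = 1 := by
      intro x
      have : x ∈ N := by rw [htop]; exact Subgroup.mem_top x
      exact MonoidHom.mem_ker.1 this
    have hfr := Helper78.finrank_eq_one_of_forall_eq_one ρ hall
    apply hχ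
    apply Subtype.ext
    funext x
    show ρ.character x = 1
    unfold Representation.character
    rw [hall x, LinearMap.trace_one, hfr]
    simp

/-- **Burnside**: a finite group having a conjugacy class of prime power size `p ^ k ≠ 1`
is not simple. -/
theorem not_isSimpleGroup_of_index_centralizer_eq_prime_pow {p k : ℕ} (hp : p.Prime) (hk : k ≠ 0)
    (g : G) (hg : (Subgroup.centralizer ({g} : Set G)).index = p ^ k) : ¬ IsSimpleGroup G := by
  intro hs
  classical
  have := Fintype.ofFinite G
  have : Fintype (IrrCharacter G) := Fintype.ofFinite _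
  have hpk : 1 < p ^ k := Nat.one_lt_pow hk hp.one_lt
  have hg1 : g ≠ 1 := by
    rintro rfl
    have hc : Subgroup.centralizer ({1} : Set G) = ⊤ := by
      ext x; simp [Subgroup.mem_centralizer_iff]
    rw [hc, Subgroup.index_top] at hg
    omega
  have hsum := Helper79.sum_irr_one_mul g
  rw [if_neg hg1] at hsum
  rw [← Finset.add_sum_erase _ _ (Finset.mem_univ (Helper79.principalIrr G))] at hsum
  have hprinc : ((Helper79.principalIrr G : IrrCharacter G) : G → ℂ) 1 *
      ((Helper79.principalIrr G : IrrCharacter G) : G → ℂ) g = 1 := by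
    show (1 : ℂ) * 1 = 1
    rw [mul_one]
  rw [hprinc] at hsum
  have hpC : (p : ℂ) ≠ 0 := by exact_mod_cast hp.ne_zero
  set α : ℂ := ∑ χ ∈ Finset.univ.erase (Helper79.principalIrr G),
    ((χ : G → ℂ) 1 * (χ : G → ℂ) g) / (p : ℂ) with hα
  have hαint : IsIntegral ℤ α := by
    refine IsIntegral.sum _ fun χ hχ => ?_
    have hne : χ ≠ Helper79.principalIrr G := (Finset.mem_erase.1 hχ).1
    rcases irr_dvd_or_eq_zero_of_simple hp hk g hg χ hne with ⟨m, hm⟩ | h0
    · rw [Helper79.irr_one, hm]
      have : ((p * m : ℕ) : ℂ) * (χ : G → ℂ) g / (p : ℂ) = (m : ℂ) * (χ : G → ℂ) g := by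
        push_cast; field_simp
      rw [this]
      exact (isIntegral_algebraMap (R := ℤ) (A := ℂ) (x := (m : ℤ))).mul
        (Helper78.isIntegral_irrChar_apply χ.2 g) |> fun h => by simpa using h
    · rw [h0, mul_zero, zero_div]
      exact isIntegral_zero
  have hαeq : (p : ℂ) * α = ∑ χ ∈ Finset.univ.erase (Helper79.principalIrr G),
      (χ : G → ℂ) 1 * (χ : G → ℂ) g := by
    rw [hα, Finset.mul_sum]
    refine Finset.sum_congr rfl fun χ _ => ?_
    field_simp
  rw [← hαeq] at hsum
  have hinv : (p : ℂ)⁻¹ = -α := by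
    have h1 : (p : ℂ) * α = -1 := by linear_combination hsum
    have h2 : α = -(p : ℂ)⁻¹ := by
      have : α = (p : ℂ)⁻¹ * ((p : ℂ) * α) := by
        rw [← mul_assoc, inv_mul_cancel₀ hpC, one_mul]
      rw [this, h1]; ring
    rw [h2, neg_neg]
  exact not_isIntegral_inv_prime hp (hinv ▸ hαint.neg)

end step1

section step2

universe u

/-- A finite simple group whose order has at most two prime divisors is commutative. -/
theorem comm_of_simple_of_two_primes {G : Type u} [Group G] [Finite G] [IsSimpleGroup G]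
    {p q : ℕ} (hp : p.Prime) (hq : q.Prime)
    (h : ∀ r : ℕ, r.Prime → r ∣ Nat.card G → r = p ∨ r = q) : ∀ a b : G, a * b = b * a := by
  classical
  have hcard : Nat.card G ≠ 1 := by
    intro h1
    have := (Nat.card_eq_one_iff_unique.1 h1).1
    exact not_subsingleton G this
  obtain ⟨r, hr, hrd⟩ := Nat.exists_prime_and_dvd hcard
  have : Fact r.Prime := ⟨hr⟩
  obtain ⟨R⟩ : Nonempty (Sylow r G) := inferInstance
  -- the other prime
  obtain ⟨s, hs, hsR⟩ : ∃ s : ℕ, s.Prime ∧ ∀ d : ℕ, d.Prime → d ∣ (R : Subgroup G).index → d = s := by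
    by_cases hrp : r = p
    · refine ⟨q, hq, fun d hd hdd => ?_⟩
      rcases h d hd (hdd.trans (Subgroup.index_dvd_card _)) with h1 | h1
      · exfalso
        apply R.not_dvd_index
        have hdr : d = r := by rw [h1, hrp]
        rw [hdr] at hdd; exact hdd
      · exact h1
    · refine ⟨p, hp, fun d hd hdd => ?_⟩
      rcases h d hd (hdd.trans (Subgroup.index_dvd_card _)) with h1 | h1
      · exact h1
      · exfalso
        apply R.not_dvd_index
        rcases h r hr hrd with h2 | h2
        · exact absurd h2 hrp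
        · have hdr : d = r := by rw [h1, h2]
          rw [hdr] at hdd; exact hdd
  have hRne : (R : Subgroup G) ≠ ⊥ := by
    intro hbot
    have h1 := R.card_eq_multiplicity
    rw [hbot, Subgroup.card_bot] at h1
    have h2 : (Nat.card G).factorization r ≠ 0 := by
      have := (hr.factorization_pos_of_dvd Nat.card_pos.ne' hrd)
      omega
    have : 1 < r ^ (Nat.card G).factorization r := Nat.one_lt_pow h2 hr.one_lt
    omega
  have : Nontrivial (R : Subgroup G) := (Subgroup.nontrivial_iff_ne_bot _).2 hRne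
  have hZ := (R.isPGroup').center_nontrivial
  obtain ⟨z, hz⟩ := exists_ne (1 : Subgroup.center (R : Subgroup G))
  set g : G := ((z : (R : Subgroup G)) : G) with hgdef
  have hg1 : g ≠ 1 := by
    intro h1
    apply hz
    apply Subtype.ext
    apply Subtype.ext
    exact h1
  have hRle : (R : Subgroup G) ≤ Subgroup.centralizer ({g} : Set G) := by
    intro x hx
    rw [Subgroup.mem_centralizer_iff]
    intro y hy
    rw [Set.mem_singleton_iff] at hy
    subst hy
    have := (Subgroup.mem_center_iff.1 z.2) ⟨x, hx⟩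
    have h2 : (((⟨x, hx⟩ : (R : Subgroup G)) * (z : (R : Subgroup G)) : (R : Subgroup G)) : G)
        = (((z : (R : Subgroup G)) * ⟨x, hx⟩ : (R : Subgroup G)) : G) := by rw [this]
    simpa using h2.symm
  have hidx : (Subgroup.centralizer ({g} : Set G)).index ∣ (R : Subgroup G).index :=
    Subgroup.index_dvd_of_le hRle
  have hRpow : (R : Subgroup G).index = s ^ ((R : Subgroup G).index).primeFactorsList.length :=
    Nat.eq_prime_pow_of_unique_prime_dvd (Subgroup.index_ne_zero_of_finite)
      (fun {d} hd hdd => hsR d hd hdd)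
  rw [hRpow] at hidx
  obtain ⟨k, -, hk⟩ := (Nat.dvd_prime_pow hs).1 hidx
  by_cases hk0 : k = 0
  · -- g central
    rw [hk0, pow_zero, Subgroup.index_eq_one] at hk
    have hgc : g ∈ Subgroup.center G := by
      rw [Subgroup.mem_center_iff]
      intro x
      have : x ∈ Subgroup.centralizer ({g} : Set G) := by rw [hk]; exact Subgroup.mem_top x
      rw [Subgroup.mem_centralizer_iff] at this
      exact (this g rfl).symm
    have hcn : Subgroup.center G ≠ ⊥ := by
      intro hb
      rw [hb, Subgroup.mem_bot] at hgc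
      exact hg1 hgc
    have htop : Subgroup.center G = ⊤ :=
      ((inferInstance : (Subgroup.center G).Normal).eq_bot_or_eq_top).resolve_left hcn
    intro a b
    have : a ∈ Subgroup.center G := by rw [htop]; exact Subgroup.mem_top a
    exact ((Subgroup.mem_center_iff.1 this) b).symm
  · exact absurd ‹IsSimpleGroup G›
      (not_isSimpleGroup_of_index_centralizer_eq_prime_pow hs hk0 g hk)

/-- A finite group all of whose prime divisors are `p` or `q` is solvable (induction form). -/
theorem isSolvable_of_prime_dvd_card_aux {p q : ℕ} (hp : p.Prime) (hq : q.Prime) :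
    ∀ (n : ℕ) (G : Type u) [Group G] [Finite G], Nat.card G = n →
      (∀ r : ℕ, r.Prime → r ∣ Nat.card G → r = p ∨ r = q) → Group.IsSolvable G := by
  intro n
  induction n using Nat.strong_induction_on with
  | _ n ih =>
  intro G _ _ hn h
  by_cases hsub : Subsingleton G
  · infer_instance
  have : Nontrivial G := not_subsingleton_iff_nontrivial.1 hsub
  by_cases hsimple : IsSimpleGroup G
  · exact Group.isSolvable_of_comm (comm_of_simple_of_two_primes hp hq h)
  · have : ∃ N : Subgroup G, N.Normal ∧ N ≠ ⊥ ∧ N ≠ ⊤ := by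
      by_contra hcon
      push Not at hcon
      exact hsimple ⟨fun N hN => by
        by_contra h'
        push Not at h'
        exact h'.2 (hcon N hN h'.1)⟩
    obtain ⟨N, hN, hbot, htop⟩ := this
    have hNcard : 1 < Nat.card N := (Subgroup.one_lt_card_iff_ne_bot N).2 hbot
    have hmul := N.index_mul_card
    have hidxpos : 0 < N.index := Nat.pos_of_ne_zero Subgroup.index_ne_zero_of_finite
    have hidx1 : N.index ≠ 1 := fun h1 => htop (Subgroup.index_eq_one.1 h1)
    have hlt1 : Nat.card N < n := by
      rw [← hn, ← hmul]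
      have : 2 ≤ N.index := by omega
      nlinarith
    have hlt2 : Nat.card (G ⧸ N) < n := by
      rw [← hn, ← hmul]
      show N.index < _
      nlinarith
    have h1 : Group.IsSolvable N := ih (Nat.card N) hlt1 N rfl
      (fun r hr hd => h r hr (hd.trans (Subgroup.card_subgroup_dvd_card N)))
    have h2 : Group.IsSolvable (G ⧸ N) := ih (Nat.card (G ⧸ N)) hlt2 (G ⧸ N) rfl
      (fun r hr hd => h r hr (hd.trans (Subgroup.card_quotient_dvd_card N)))
    exact (Group.isSolvable_iff_subgroup_quotient N).2 ⟨h1, h2⟩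

/-- **Burnside**: a finite group all of whose prime divisors are `p` or `q` is solvable. -/
theorem isSolvable_of_prime_dvd_card {G : Type u} [Group G] [Finite G] {p q : ℕ} (hp : p.Prime)
    (hq : q.Prime) (h : ∀ r : ℕ, r.Prime → r ∣ Nat.card G → r = p ∨ r = q) :
    Group.IsSolvable G :=
  isSolvable_of_prime_dvd_card_aux hp hq (Nat.card G) G rfl h

/-- **Burnside's `p^a q^b` theorem**. -/
theorem burnside_pq {G : Type u} [Group G] [Finite G] (p q a b : ℕ) (hp : p.Prime) (hq : q.Prime)
    (hcard : Nat.card G = p ^ a * q ^ b) : Group.IsSolvable G := by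
  refine isSolvable_of_prime_dvd_card hp hq (fun r hr hd => ?_)
  rw [hcard] at hd
  rcases (Nat.Prime.dvd_mul hr).1 hd with h1 | h1
  · exact Or.inl ((Nat.prime_dvd_prime_iff_eq hr hp).1 (hr.dvd_of_dvd_pow h1))
  · exact Or.inr ((Nat.prime_dvd_prime_iff_eq hr hq).1 (hr.dvd_of_dvd_pow h1))

end step2

end Cfsg.Agent.Lib
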