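import Cfsg.Agent.Lib.ZJ9

/-!
# ZJ-theorem for strongly closed subgroups: the two concrete families (lead)
-/

set_option autoImplicit false

namespace Cfsg.Agent.Lib.ZJ

open Subgroup

universe u

/-- `Ω₁(Z(J_e(D)))` computed in `G` is the image of the intrinsic one. -/
theorem omegaOne_centerThompsonOf_eq_map {G : Type*} [Group G] (p : ℕ) (D : Subgroup G) :
    Cfsg.omegaOne p (Cfsg.centerThompsonOf p D) = (Cfsg.omegaCenterThompson p ↥D).map D.subtype := by
  unfold Cfsg.omegaCenterThompson Cfsg.omegaOne Cfsg.centerThompsonOf Cfsg.thompsonSubgroupOf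
  rw [MonoidHom.map_closure]
  congr 1
  ext x
  constructor
  · rintro ⟨⟨⟨x', hx'J, rfl⟩, hxC⟩, hxp⟩
    refine ⟨x', ⟨⟨hx'J, ?_⟩, ?_⟩, rfl⟩
    · show x' ∈ centralizer ((Cfsg.thompsonSubgroup p ↥D : Subgroup ↥D) : Set ↥D)
      rw [Subgroup.mem_centralizer_iff]
      intro y' hy'
      apply Subtype.ext
      have hxC' : (D.subtype x') ∈ centralizer
          (((Cfsg.thompsonSubgroup p ↥D).map D.subtype : Subgroup G) : Set G) := hxC
      have := (Subgroup.mem_centralizer_iff.1 hxC') (D.subtype y') ⟨y', hy', rfl⟩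
      simpa using this
    · apply Subtype.ext
      simpa using hxp
  · rintro ⟨x', ⟨⟨hx'J, hx'C⟩, hx'p⟩, rfl⟩
    refine ⟨⟨⟨x', hx'J, rfl⟩, ?_⟩, ?_⟩
    · show D.subtype x' ∈ centralizer
          (((Cfsg.thompsonSubgroup p ↥D).map D.subtype : Subgroup G) : Set G)
      rw [Subgroup.mem_centralizer_iff]
      rintro _ ⟨y', hy', rfl⟩
      have hx'C' : x' ∈ centralizer ((Cfsg.thompsonSubgroup p ↥D : Subgroup ↥D) : Set ↥D) := hx'C
      have := (Subgroup.mem_centralizer_iff.1 hx'C') y' hy'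
      rw [← map_mul, ← map_mul, this]
    · have := congrArg Subtype.val hx'p
      simpa using this

/-- Statement S3079 in library form. -/
theorem zj_stronglyClosed {G : Type u} [Group G] [Finite G] {p : ℕ} [Fact p.Prime] (hp : p ≠ 2)
    (P : Sylow p G) (D : Subgroup G) (hD : Cfsg.IsStronglyClosed D (P : Subgroup G))
    (hst : Cfsg.IsNormalizerPStable p G)
    (hc : centralizer (Cfsg.pCore p G : Set G) ≤ Cfsg.pCore p G) :
    (Cfsg.centerThompsonAOf D).Normal ∧ (Cfsg.omegaOne p (Cfsg.centerThompsonOf p D)).Normal := by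
  have hDn : (D.subgroupOf (P : Subgroup G)).Normal := normal_subgroupOf_of_stronglyClosed hD
  have hDp : IsPGroup p ↥D := P.2.to_le hD.1
  constructor
  · rw [centerThompsonAOf_eq_sInf]
    exact sInf_maxGood_normal_of_stronglyClosed intrinsic_comm P D hD
      (fun B _ h1 h2 => Cfsg.Agent.S0651.result P.isPGroup' hp (D.subgroupOf (P : Subgroup G)) B h1 h2)
      hst hc
  · rw [omegaOne_centerThompsonOf_eq_map,
      map_omegaCenterThompson_eq_sInf D (Cfsg.Agent.S0655.result hDp).1]
    exact sInf_maxGood_normal_of_stronglyClosed (intrinsic_elem p) P D hD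
      (fun B _ h1 h2 => Cfsg.Agent.S0652.result P.isPGroup' hp (D.subgroupOf (P : Subgroup G)) B h1 h2)
      hst hc

end Cfsg.Agent.Lib.ZJ
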