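import Cfsg.Agent.Lib.ZJ8
import Cfsg.Agent.S0652
import Cfsg.Agent.S0655
import Cfsg.Prelude.Def_LocalEven
import Cfsg.Prelude.Def_TwoFusion

/-!
# Glauberman's ZJ-theorem for strongly closed subgroups (lead)
-/

set_option autoImplicit false

namespace Cfsg.Agent.Lib.ZJ

open Subgroup

universe u

/-- Normalizer-form `p`-stability gives `p`-stability on every normal `p`-subgroup. -/
theorem isPStableOn_of_isNormalizerPStable {G : Type*} [Group G] {p : ℕ}
    (hst : Cfsg.IsNormalizerPStable p G) (V : Subgroup G) [V.Normal] (hV : IsPGroup p V) :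
    Cfsg.IsPStableOn p V := by
  intro a hq
  have ha : a ∈ normalizer (V : Set G) := by
    rw [Subgroup.normalizer_eq_top]; exact Subgroup.mem_top _
  have hmem := hst V hV a ha hq
  exact mem_pCore_quotient_centralizer_map (MonoidHom.id G) V V (Subgroup.map_id V)
    (fun h => ⟨h, by rw [Subgroup.normalizer_eq_top]; exact Subgroup.mem_top _, rfl⟩) a ha hmem

/-- Transport of the replacement property from `↥S` to `G`. -/
theorem repl_transport {G : Type*} [Group G] (S : Subgroup G) (fam : Set (Subgroup G))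
    (famS : Set (Subgroup ↥S))
    (hfam : fam = Set.image (fun A : Subgroup ↥S => A.map S.subtype) famS)
    (hrepl : ∀ (B : Subgroup ↥S) [B.Normal], ⁅⁅B, B⁆, B⁆ = ⊥ →
      (∃ U ∈ famS, ⁅B, B⁆ ≤ U ∧ ¬ B ≤ U) →
      ∃ A ∈ famS, ⁅B, B⁆ ≤ A ∧ ¬ B ≤ A ∧ B ≤ normalizer (A : Set ↥S)) :
    ∀ B : Subgroup G, B ≤ S → S ≤ normalizer (B : Set G) → ⁅⁅B, B⁆, B⁆ = ⊥ →
      (∃ U ∈ fam, ⁅B, B⁆ ≤ U ∧ ¬ B ≤ U) →
      ∃ A ∈ fam, ⁅B, B⁆ ≤ A ∧ ¬ B ≤ A ∧ B ≤ normalizer (A : Set G) := by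
  have hinj := S.subtype_injective
  intro B hBS hSB hcl2 hex
  have hBn : (B.subgroupOf S).Normal :=
    (Subgroup.normal_subgroupOf_iff_le_normalizer hBS).2 hSB
  have hBmap : (B.subgroupOf S).map S.subtype = B := by
    rw [Subgroup.subgroupOf_map_subtype, inf_eq_left.2 hBS]
  set Bs := B.subgroupOf S with hBs
  have hcomm : (⁅Bs, Bs⁆).map S.subtype = ⁅B, B⁆ := by
    rw [Subgroup.map_commutator, hBmap]
  have hcl2s : ⁅⁅Bs, Bs⁆, Bs⁆ = ⊥ := by
    rw [← Subgroup.map_eq_bot_iff_of_injective _ hinj, Subgroup.map_commutator, hcomm, hBmap]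
    exact hcl2
  have hexs : ∃ U ∈ famS, ⁅Bs, Bs⁆ ≤ U ∧ ¬ Bs ≤ U := by
    obtain ⟨U, hU, hBU, hnBU⟩ := hex
    rw [hfam] at hU
    obtain ⟨Us, hUs, rfl⟩ := hU
    refine ⟨Us, hUs, ?_, ?_⟩
    · rw [← Subgroup.map_le_map_iff_of_injective hinj, hcomm]
      exact hBU
    · intro hle
      apply hnBU
      rw [← hBmap]
      exact Subgroup.map_mono hle
  obtain ⟨As, hAs, h1, h2, h3⟩ := @hrepl Bs hBn hcl2s hexs
  refine ⟨As.map S.subtype, by rw [hfam]; exact ⟨As, hAs, rfl⟩, ?_, ?_, ?_⟩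
  · rw [← hcomm]
    exact Subgroup.map_mono h1
  · intro hle
    apply h2
    rw [← Subgroup.map_le_map_iff_of_injective hinj, hBmap]
    exact hle
  · rw [← hBmap]
    exact (Subgroup.map_mono h3).trans (Subgroup.le_normalizer_map _)

variable {good : ∀ (K : Type u) [Group K], Subgroup K → Prop}

/-- The replacement property in the shape of S0651/S0652. -/
def ReplD (good : ∀ (K : Type u) [Group K], Subgroup K → Prop) (S : Type u) [Group S]
    (D : Subgroup S) : Prop :=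
  ∀ (B : Subgroup S) [B.Normal], ⁅⁅B, B⁆, B⁆ = ⊥ →
    (∃ U ∈ Set.image (fun A : Subgroup ↥D => A.map D.subtype) (maxGoodT good ↥D),
      ⁅B, B⁆ ≤ U ∧ ¬ B ≤ U) →
    ∃ A ∈ Set.image (fun A : Subgroup ↥D => A.map D.subtype) (maxGoodT good ↥D),
      ⁅B, B⁆ ≤ A ∧ ¬ B ≤ A ∧ B ≤ normalizer (A : Set S)

/-- `good` subgroups with a conjugate inside `D`. -/
def goodInto (good : ∀ (K : Type u) [Group K], Subgroup K → Prop) {G : Type u} [Group G]
    (D : Subgroup G) : Subgroup G → Prop := fun A => good G A ∧ ∃ g : G, cj g A ≤ D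

section closed

variable {G : Type u} [Group G] {D P : Subgroup G}

theorem le_and_goodInto_iff (hD : Cfsg.IsStronglyClosed D P) (A : Subgroup G) :
    (A ≤ P ∧ goodInto good D A) ↔ (A ≤ D ∧ good G A) := by
  constructor
  · rintro ⟨hAP, hg, g, hgA⟩
    refine ⟨fun x hx => ?_, hg⟩
    have h1 : g * x * g⁻¹ ∈ D := hgA ⟨x, hx, rfl⟩
    have h2 := hD.2 (g * x * g⁻¹) h1 g⁻¹
    have h3 : g⁻¹ * (g * x * g⁻¹) * g⁻¹⁻¹ = x := by group
    rw [h3] at h2
    exact h2 (hAP hx)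
  · rintro ⟨hAD, hg⟩
    refine ⟨hAD.trans hD.1, hg, 1, ?_⟩
    rintro _ ⟨x, hx, rfl⟩
    simpa using hAD hx

theorem maxGood_goodInto (hD : Cfsg.IsStronglyClosed D P) :
    maxGood (goodInto good D) P = maxGood (good G) D := by
  ext A
  constructor
  · rintro ⟨hAP, hg, hmax⟩
    obtain ⟨hAD, hgA⟩ := (le_and_goodInto_iff hD A).1 ⟨hAP, hg⟩
    refine ⟨hAD, hgA, fun A' hA' hg' => ?_⟩
    obtain ⟨h1, h2⟩ := (le_and_goodInto_iff (good := good) hD A').2 ⟨hA', hg'⟩
    exact hmax A' h1 h2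
  · rintro ⟨hAD, hg, hmax⟩
    obtain ⟨hAP, hgA⟩ := (le_and_goodInto_iff (good := good) hD A).2 ⟨hAD, hg⟩
    refine ⟨hAP, hgA, fun A' hA' hg' => ?_⟩
    obtain ⟨h1, h2⟩ := (le_and_goodInto_iff hD A').1 ⟨hA', hg'⟩
    exact hmax A' h1 h2

theorem normal_subgroupOf_of_stronglyClosed (hD : Cfsg.IsStronglyClosed D P) :
    (D.subgroupOf P).Normal := by
  refine ⟨fun x hx g => ?_⟩
  rw [Subgroup.mem_subgroupOf] at hx ⊢
  have := hD.2 (x : G) hx (g : G)
  apply this
  exact P.mul_mem (P.mul_mem g.2 x.2) (P.inv_mem g.2)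

end closed

theorem hyp_goodInto (hI : Intrinsic good) {G : Type u} [Group G] [Finite G] {p : ℕ}
    [Fact p.Prime] (P : Sylow p G) (D : Subgroup G) (hD : Cfsg.IsStronglyClosed D (P : Subgroup G))
    (hrepl : ReplD good ↥(P : Subgroup G) (D.subgroupOf (P : Subgroup G))) :
    Hyp (goodInto good D) P := by
  set Ds := D.subgroupOf (P : Subgroup G) with hDs
  have hDmap : Ds.map (P : Subgroup G).subtype = D := by
    rw [Subgroup.subgroupOf_map_subtype, inf_eq_left.2 hD.1]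
  have hinj : Function.Injective ((P : Subgroup G).subtype.comp Ds.subtype) :=
    (P : Subgroup G).subtype_injective.comp Ds.subtype_injective
  have hfam : maxGood (goodInto good D) (P : Subgroup G) =
      Set.image (fun A : Subgroup ↥(P : Subgroup G) => A.map (P : Subgroup G).subtype)
        (Set.image (fun A : Subgroup ↥Ds => A.map Ds.subtype) (maxGoodT good ↥Ds)) := by
    rw [maxGood_goodInto hD, image_map_subtype_maxGoodT hI,
      ← maxGood_map_of_injOn (P : Subgroup G).subtype Ds hinj hI, hDmap]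
  refine ⟨fun A hA => hI.comm A hA.1, fun A g hA => ?_, ?_, ?_⟩
  · refine ⟨(hI.map_iff (MulAut.conj g).toMonoidHom (MulAut.conj g).injective A).2 hA.1, ?_⟩
    obtain ⟨g₀, hg₀⟩ := hA.2
    refine ⟨g₀ * g⁻¹, ?_⟩
    rintro _ ⟨_, ⟨x, hx, rfl⟩, rfl⟩
    have : g₀ * x * g₀⁻¹ ∈ D := hg₀ ⟨x, hx, rfl⟩
    simpa [mul_assoc] using this
  · rw [hfam]
    exact ((maxGoodT_nonempty hI).image _).image _
  · exact repl_transport (P : Subgroup G) _ _ hfam hrepl

/-- ZJ-theorem for a strongly closed subgroup, generic form. -/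
theorem sInf_maxGood_normal_of_stronglyClosed (hI : Intrinsic good) {G : Type u} [Group G] [Finite G]
    {p : ℕ} [Fact p.Prime] (P : Sylow p G) (D : Subgroup G)
    (hD : Cfsg.IsStronglyClosed D (P : Subgroup G))
    (hrepl : ReplD good ↥(P : Subgroup G) (D.subgroupOf (P : Subgroup G)))
    (hst : Cfsg.IsNormalizerPStable p G)
    (hc : centralizer (Cfsg.pCore p G : Set G) ≤ Cfsg.pCore p G) :
    (sInf (maxGood (good G) D)).Normal := by
  have h := sInf_normal (hyp_goodInto hI P D hD hrepl)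
    (fun V _ hV => isPStableOn_of_isNormalizerPStable hst V hV) hc
  rwa [maxGood_goodInto hD] at h

end Cfsg.Agent.Lib.ZJ
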