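import Cfsg.Agent.Lib.ZJ7
import Cfsg.Agent.Helper50.LocallyCentral
import Cfsg.Agent.Helper48.StronglyEmbedded

/-!
# Local ZJ: `N_G(Q) ≤ N_G(Z(J(P)))` when all `p`-locals have characteristic `p` and are `p`-stable (lead)
-/

set_option autoImplicit false

namespace Cfsg.Agent.Lib.ZJ

open Subgroup

universe u

variable {G : Type u} [Group G]

/-- The centre of `R` lies in every abelian subgroup of `R` of largest order. -/
theorem inf_centralizer_le_of_mem_maxGood [Finite G] {R A : Subgroup G}
    (hA : A ∈ maxGood (goodComm G) R) : R ⊓ centralizer (R : Set G) ≤ A := by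
  obtain ⟨hAR, hAc, hmax⟩ := hA
  have hAc' : ∀ x ∈ A, ∀ y ∈ A, x * y = y * x := (isMulCommutative_iff A).1 hAc
  set Z := R ⊓ centralizer (R : Set G) with hZ
  set B := A ⊔ Z with hB
  have hBR : B ≤ R := sup_le hAR inf_le_left
  have h1 : B ≤ centralizer (A : Set G) := by
    refine sup_le ?_ ?_
    · intro x hx
      rw [Subgroup.mem_centralizer_iff]
      intro y hy
      exact hAc' y hy x hx
    · exact inf_le_right.trans (Subgroup.centralizer_le hAR)
  have h2 : B ≤ centralizer (Z : Set G) := by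
    have hRZ : R ≤ centralizer (Z : Set G) := by
      rw [Subgroup.le_centralizer_iff]
      exact inf_le_right
    exact hBR.trans hRZ
  have h3 : B ≤ centralizer (B : Set G) := by
    rw [Subgroup.le_centralizer_iff] at h1 h2
    exact sup_le h1 h2
  have hBc : goodComm G B := by
    unfold goodComm
    rw [isMulCommutative_iff]
    intro x hx y hy
    exact ((Subgroup.mem_centralizer_iff.1 (h3 hy)) x hx)
  have hcard := hmax B hBR hBc
  have hAB : A = B := Subgroup.eq_of_le_of_card_ge le_sup_left hcard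
  rw [hAB]
  exact le_sup_right

/-- `Z(J(R))` is nontrivial for a nontrivial finite `p`-subgroup `R`. -/
theorem centerThompsonAOf_ne_bot [Finite G] {p : ℕ} [Fact p.Prime] {R : Subgroup G}
    (hR : IsPGroup p R) (hR1 : R ≠ ⊥) : Cfsg.centerThompsonAOf R ≠ ⊥ := by
  have : Nontrivial R := (Subgroup.nontrivial_iff_ne_bot R).2 hR1
  have hc : Nontrivial (Subgroup.center R) := hR.center_nontrivial
  obtain ⟨⟨z, hz⟩, hz1⟩ := exists_ne (1 : Subgroup.center R)
  have hz1' : (z : G) ≠ 1 := by
    intro h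
    apply hz1
    apply Subtype.ext
    apply Subtype.ext
    exact h
  have hzZ : (z : G) ∈ R ⊓ centralizer (R : Set G) := by
    refine ⟨z.2, ?_⟩
    show (z : G) ∈ centralizer (R : Set G)
    rw [Subgroup.mem_centralizer_iff]
    intro y hy
    have := (Subgroup.mem_center_iff.1 hz) ⟨y, hy⟩
    exact congrArg Subtype.val this
  intro hbot
  apply hz1'
  have hle : R ⊓ centralizer (R : Set G) ≤ Cfsg.centerThompsonAOf R := by
    rw [centerThompsonAOf_eq_sInf]
    exact le_sInf fun A hA => inf_centralizer_le_of_mem_maxGood hA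
  have := hle hzZ
  rw [hbot, Subgroup.mem_bot] at this
  exact this

/-- `N_G(R)` normalizes `Z(J(R))`. -/
theorem normalizer_le_normalizer_centerThompsonAOf [Finite G] (R : Subgroup G) :
    normalizer (R : Set G) ≤ normalizer (Cfsg.centerThompsonAOf R : Set G) := by
  rw [centerThompsonAOf_eq_sInf]
  have hconj : ∀ (A : Subgroup G) (g : G), goodComm G A → goodComm G (cj g A) := fun A g hA =>
    (intrinsic_comm.map_iff (MulAut.conj g).toMonoidHom (MulAut.conj g).injective A).2 hA
  have := normalizer_le_normalizer_sInf (good := goodComm G) hconj (le_refl R)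
  rwa [maxGoodIn_self] at this

/-- In a subgroup `N` of characteristic `p` that is `p`-stable, `N` normalizes `Z(J(T))`
for each Sylow `p`-subgroup `T` of `N`. -/
theorem le_normalizer_zj_sylow_local [Finite G] {p : ℕ} [Fact p.Prime] (hp : p ≠ 2)
    (N : Subgroup G)
    (h : Cfsg.pPrimeCore p ↥N = ⊥ ∧ Cfsg.IsPConstrained p ↥N ∧ Cfsg.IsPStable p ↥N)
    (T' : Sylow p ↥N) :
    N ≤ normalizer (Cfsg.centerThompsonAOf ((T' : Subgroup ↥N).map N.subtype) : Set G) := by
  have hn : (Cfsg.centerThompsonAOf (T' : Subgroup ↥N)).Normal :=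
    zj_normal_of_pConstrained_pStable hp h.2.1 h.2.2 T' h.1
  have hinj : Function.Injective (N.subtype.comp (T' : Subgroup ↥N).subtype) :=
    N.subtype_injective.comp (T' : Subgroup ↥N).subtype_injective
  rw [centerThompsonAOf_map N.subtype (T' : Subgroup ↥N) hinj]
  have h1 := Subgroup.le_normalizer_map (H := Cfsg.centerThompsonAOf (T' : Subgroup ↥N)) N.subtype
  rw [Subgroup.normalizer_eq_top, ← MonoidHom.range_eq_map, Subgroup.range_subtype] at h1
  exact h1

/-- Statement S0658, by induction on `|P| - |N_P(Q)|`. -/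
theorem normalizer_le_normalizer_zj_aux [Finite G] {p : ℕ} [Fact p.Prime] (hp : p ≠ 2)
    (hloc : ∀ Q : Subgroup G, IsPGroup p Q → Q ≠ ⊥ →
      Cfsg.pPrimeCore p ↥(normalizer (Q : Set G)) = ⊥ ∧
        Cfsg.IsPConstrained p ↥(normalizer (Q : Set G)) ∧ Cfsg.IsPStable p ↥(normalizer (Q : Set G)))
    (P : Sylow p G) :
    ∀ (n : ℕ) (Q : Subgroup G), Q ≤ (P : Subgroup G) → Q ≠ ⊥ →
      Nat.card (P : Subgroup G) -
        Nat.card ((P : Subgroup G) ⊓ normalizer (Q : Set G) : Subgroup G) = n →
      normalizer (Q : Set G) ≤ normalizer (Cfsg.centerThompsonAOf (P : Subgroup G) : Set G) := by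
  intro n
  induction n using Nat.strong_induction_on with
  | _ n ih =>
  intro Q hQP hQ1 hn
  set M := normalizer (Cfsg.centerThompsonAOf (P : Subgroup G) : Set G) with hM
  set N := normalizer (Q : Set G) with hN
  set R := (P : Subgroup G) ⊓ N with hR
  have hQp : IsPGroup p Q := P.2.to_le hQP
  have hRP : R ≤ (P : Subgroup G) := inf_le_left
  have hRN : R ≤ N := inf_le_right
  have hQR : Q ≤ R := le_inf hQP Subgroup.le_normalizer
  have hR1 : R ≠ ⊥ := fun h => hQ1 (le_bot_iff.1 (h ▸ hQR))
  have hRp : IsPGroup p R := P.2.to_le hRP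
  have hRp' : IsPGroup p (R.subgroupOf N) := hRp.comap_subtype
  obtain ⟨T', hT'⟩ := hRp'.exists_le_sylow
  set T := (T' : Subgroup ↥N).map N.subtype with hT
  have hRT : R ≤ T := fun r hr => ⟨⟨r, hRN hr⟩, hT' (Subgroup.mem_subgroupOf.2 hr), rfl⟩
  have hTN : T ≤ N := Subgroup.map_subtype_le _
  have hTp : IsPGroup p T := T'.2.map _
  have hNZT : N ≤ normalizer (Cfsg.centerThompsonAOf T : Set G) :=
    le_normalizer_zj_sylow_local hp N (hloc Q hQp hQ1) T'
  have hcardRP : Nat.card R ≤ Nat.card (P : Subgroup G) := Subgroup.card_le_of_le hRP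
  have hPM : (P : Subgroup G) ≤ M :=
    Subgroup.le_normalizer.trans (normalizer_le_normalizer_centerThompsonAOf _)
  by_cases hTR : T = R
  · by_cases hRPeq : R = (P : Subgroup G)
    · rw [hTR, hRPeq] at hNZT
      exact hNZT
    · have hlt : R < (P : Subgroup G) := lt_of_le_of_ne hRP hRPeq
      have hgrow : R < (P : Subgroup G) ⊓ normalizer (R : Set G) :=
        Cfsg.Agent.Helper50.lt_inf_normalizer R (P : Subgroup G) P.2 hlt
      have hQ₁R : Cfsg.centerThompsonAOf R ≤ R := centerThompsonAOf_le R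
      have hQ₁1 : Cfsg.centerThompsonAOf R ≠ ⊥ := centerThompsonAOf_ne_bot hRp hR1
      have hNN := normalizer_le_normalizer_centerThompsonAOf R
      have hcard : Nat.card R <
          Nat.card ((P : Subgroup G) ⊓ normalizer (Cfsg.centerThompsonAOf R : Set G) : Subgroup G) :=
        lt_of_lt_of_le (card_lt_of_lt hgrow) (Subgroup.card_le_of_le (inf_le_inf_left _ hNN))
      have hcard2 : Nat.card ((P : Subgroup G) ⊓
          normalizer (Cfsg.centerThompsonAOf R : Set G) : Subgroup G) ≤ Nat.card (P : Subgroup G) :=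
        Subgroup.card_le_of_le inf_le_left
      have := ih _ (by omega) (Cfsg.centerThompsonAOf R) (hQ₁R.trans hRP) hQ₁1 rfl
      rw [hTR] at hNZT
      exact hNZT.trans this
  · have hlt : R < T := lt_of_le_of_ne hRT (Ne.symm hTR)
    have hRPne : R ≠ (P : Subgroup G) := by
      intro h
      apply hTR
      have h1 : T = (P : Subgroup G) := P.3 hTp (h ▸ hRT)
      rw [h1, h]
    have hltP : R < (P : Subgroup G) := lt_of_le_of_ne hRP hRPne
    have hgrowP : R < (P : Subgroup G) ⊓ normalizer (R : Set G) :=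
      Cfsg.Agent.Helper50.lt_inf_normalizer R (P : Subgroup G) P.2 hltP
    have hc1 := card_lt_of_lt hgrowP
    have hc2 : Nat.card ((P : Subgroup G) ⊓ normalizer (R : Set G) : Subgroup G) ≤
        Nat.card (P : Subgroup G) := Subgroup.card_le_of_le inf_le_left
    have hNR : normalizer (R : Set G) ≤ M := ih _ (by omega) R hRP hR1 rfl
    have hgrowT : R < T ⊓ normalizer (R : Set G) :=
      Cfsg.Agent.Helper50.lt_inf_normalizer R T hTp hlt
    set R₁ := T ⊓ normalizer (R : Set G) with hR₁
    have hR₁M : R₁ ≤ M := inf_le_right.trans hNR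
    have hR₁p : IsPGroup p R₁ := hTp.to_le inf_le_left
    obtain ⟨m, hmM, hm⟩ := Cfsg.Agent.Helper48.exists_conj_le_sylow P hPM hR₁M hR₁p
    have hQ'P : cj m Q ≤ (P : Subgroup G) := (Subgroup.map_mono (hQR.trans hgrowT.le)).trans hm
    have hQ'1 : cj m Q ≠ ⊥ := Cfsg.Agent.Helper50.cjg_ne_bot m hQ1
    have hR₁N' : cj m R₁ ≤ normalizer ((cj m Q : Subgroup G) : Set G) :=
      (Subgroup.map_mono (inf_le_left.trans hTN)).trans (Subgroup.le_normalizer_map _)
    have hc3 : Nat.card R < Nat.card R₁ := card_lt_of_lt hgrowT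
    have hc4 : Nat.card R₁ ≤
        Nat.card ((P : Subgroup G) ⊓ normalizer ((cj m Q : Subgroup G) : Set G) : Subgroup G) := by
      rw [← card_cj m R₁]
      exact Subgroup.card_le_of_le (le_inf hm hR₁N')
    have hc5 : Nat.card ((P : Subgroup G) ⊓ normalizer ((cj m Q : Subgroup G) : Set G) : Subgroup G) ≤
        Nat.card (P : Subgroup G) := Subgroup.card_le_of_le inf_le_left
    have hN' : normalizer ((cj m Q : Subgroup G) : Set G) ≤ M :=
      ih _ (by omega) (cj m Q) hQ'P hQ'1 rfl
    intro x hx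
    have h1 : m * x * m⁻¹ ∈ normalizer ((cj m Q : Subgroup G) : Set G) :=
      (Subgroup.le_normalizer_map (MulAut.conj m).toMonoidHom) ⟨x, hx, rfl⟩
    have h2 := hN' h1
    have h3 : x = m⁻¹ * (m * x * m⁻¹) * m := by group
    rw [h3]
    exact M.mul_mem (M.mul_mem (M.inv_mem hmM) h2) hmM

end Cfsg.Agent.Lib.ZJ
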