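-- lead: preliminaries for the Hall-Wielandt / Yoshida transfer cluster (S2792, S2807, S4215, S4226):
-- maximal subgroups of p-groups, Frattini vs homs to a group of order p, binomial coefficients mod p,
-- the identity prod_{j<p} nu(z^-j u z^j) = nu([u,z;p-1]) for targets of exponent p, weak closure lemmas.
import Mathlib
import Cfsg.Prelude.Def_Transfer

set_option autoImplicit false
set_option linter.style.haveILetI false

namespace Cfsg.Agent.Lib.HW

open Finset Subgroup
open scoped Pointwise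

theorem coatom_pgroup {X : Type*} [Group X] [Finite X] {p : ℕ} [hp : Fact p.Prime] (hX : IsPGroup p X)
    (M : Subgroup X) (hM : IsCoatom M) : M.Normal ∧ M.index = p := by
  haveI : Group.IsNilpotent X := hX.isNilpotent
  have hn : M.Normal := Subgroup.NormalizerCondition.normal_of_coatom M Group.normalizerCondition_of_isNilpotent hM
  refine ⟨hn, ?_⟩
  haveI := hn
  have hq : IsPGroup p (X ⧸ M) := hX.to_quotient M
  obtain ⟨k, hk⟩ := IsPGroup.iff_card.mp hq
  have hidx : M.index = p ^ k := by rw [Subgroup.index_eq_card]; exact hk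
  rcases k with _ | k
  · exfalso
    rw [pow_zero, Subgroup.index_eq_one] at hidx
    exact hM.1 hidx
  -- a subgroup of order p^k in the quotient
  obtain ⟨K, hK⟩ := Sylow.exists_subgroup_card_pow_prime (G := X ⧸ M) p
    (show p ^ k ∣ Nat.card (X ⧸ M) by rw [hk]; exact pow_dvd_pow p (Nat.le_succ k))
  have hle : M ≤ K.comap (QuotientGroup.mk' M) := by
    intro x hx
    rw [Subgroup.mem_comap, QuotientGroup.mk'_apply, (QuotientGroup.eq_one_iff x).mpr hx]
    exact K.one_mem
  have hne : K.comap (QuotientGroup.mk' M) ≠ ⊤ := by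
    intro h
    have h2 : K = ⊤ := by
      rw [eq_top_iff]
      intro q _
      obtain ⟨x, rfl⟩ := QuotientGroup.mk_surjective q
      have : x ∈ K.comap (QuotientGroup.mk' M) := by rw [h]; trivial
      exact this
    rw [h2, Subgroup.card_top, hk] at hK
    have := Nat.pow_right_injective hp.1.two_le hK
    omega
  have heq : K.comap (QuotientGroup.mk' M) = M := by
    rcases eq_or_lt_of_le hle with h | h
    · exact h.symm
    · exact absurd (hM.2 _ h) hne
  have hKbot : K = ⊥ := by
    rw [eq_bot_iff]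
    intro q hq
    obtain ⟨x, rfl⟩ := QuotientGroup.mk_surjective q
    have : x ∈ K.comap (QuotientGroup.mk' M) := hq
    rw [heq] at this
    rw [Subgroup.mem_bot]
    exact (QuotientGroup.eq_one_iff x).mpr this
  rw [hKbot, Subgroup.card_bot] at hK
  have hk0 : k = 0 := by
    by_contra h
    have : 1 < p ^ k := Nat.one_lt_pow h hp.1.one_lt
    omega
  rw [hidx, hk0, zero_add, pow_one]

theorem exists_normal_index_p {X : Type*} [Group X] [Finite X] {p : ℕ} [hp : Fact p.Prime] (hX : IsPGroup p X)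
    (E : Subgroup X) (hE : E ≠ ⊤) : ∃ M : Subgroup X, M.Normal ∧ M.index = p ∧ E ≤ M := by
  rcases eq_top_or_exists_le_coatom E with h | ⟨M, hM, hEM⟩
  · exact absurd h hE
  · exact ⟨M, (coatom_pgroup hX M hM).1, (coatom_pgroup hX M hM).2, hEM⟩

theorem isCoatom_of_index_prime {H : Type*} [Group H] {K : Subgroup H} (hK : K.index.Prime) :
    IsCoatom K := by
  constructor
  · intro h
    rw [h, Subgroup.index_top] at hK
    exact Nat.not_prime_one hK
  · intro L hL
    have h1 : K.relIndex L * L.index = K.index := Subgroup.relIndex_mul_index hL.le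
    have h2 : L.index ∣ K.index := Dvd.intro_left _ h1
    rcases (Nat.dvd_prime hK).mp h2 with h3 | h3
    · exact Subgroup.index_eq_one.mp h3
    · exfalso
      rw [h3] at h1
      have h4 : K.relIndex L = 1 := by
        have hpos : 0 < K.index := hK.pos
        exact Nat.eq_of_mul_eq_mul_right hpos (by rw [h1, one_mul])
      rw [Subgroup.relIndex_eq_one] at h4
      exact (not_le_of_gt hL) h4

theorem not_mem_frattini_of_hom {H : Type*} [Group H] [Finite H] {A : Type*} [Group A] {p : ℕ}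
    [hp : Fact p.Prime] (hA : Nat.card A = p) (f : H →* A) (x : H) (hx : f x ≠ 1) :
    x ∉ frattini H := by
  intro hxf
  haveI : Fact (Nat.card A).Prime := by rw [hA]; exact hp
  have hr : f.range = ⊤ := by
    rcases Subgroup.eq_bot_or_eq_top_of_prime_card f.range with h | h
    · exfalso
      have : f x ∈ f.range := ⟨x, rfl⟩
      rw [h, Subgroup.mem_bot] at this
      exact hx this
    · exact h
  have hidx : f.ker.index = p := by
    rw [Subgroup.index_ker, hr, Subgroup.card_top, hA]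
  have hco : IsCoatom f.ker := isCoatom_of_index_prime (by rw [hidx]; exact hp.1)
  have := frattini_le_coatom hco hxf
  exact hx this

theorem choose_pred_prime (p : ℕ) [hp : Fact p.Prime] (k : ℕ) (hk : k ≤ p - 1) :
    (((p - 1).choose k : ℕ) : ZMod p) = (-1) ^ k := by
  induction k with
  | zero => simp
  | succ k ih =>
    have h1 : p - 1 + 1 = p := Nat.sub_add_cancel hp.1.one_le
    have h2 : p.choose (k + 1) = (p - 1).choose k + (p - 1).choose (k + 1) := by
      conv_lhs => rw [← h1]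
      exact Nat.choose_succ_succ (p - 1) k
    have h3 : p ∣ p.choose (k + 1) := hp.1.dvd_choose_self (Nat.succ_ne_zero k) (by omega)
    have h4 : ((p.choose (k + 1) : ℕ) : ZMod p) = 0 := (ZMod.natCast_eq_zero_iff _ _).mpr h3
    rw [h2, Nat.cast_add, ih (by omega)] at h4
    rw [pow_succ, mul_neg_one]
    exact (eq_neg_of_add_eq_zero_right h4)

theorem coeff_eq_one (p : ℕ) [hp : Fact p.Prime] (k : ℕ) (hk : k ≤ p - 1) :
    ((((-1 : ℤ) ^ (p - 1 - k) * ((p - 1).choose k : ℤ) : ℤ)) : ZMod p) = 1 := by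
  push_cast
  have := choose_pred_prime p k hk
  rw [this, ← pow_add, Nat.sub_add_cancel hk]
  have hne : (-1 : ZMod p) ≠ 0 := by
    rw [neg_ne_zero]; exact one_ne_zero
  exact ZMod.pow_card_sub_one_eq_one hne

theorem zsmul_eq_of_cast_eq_one {B : Type*} [AddCommGroup B] (p : ℕ) (hB : ∀ b : B, p • b = 0)
    (m : ℤ) (hm : (m : ZMod p) = 1) (b : B) : m • b = b := by
  have h1 : ((m - 1 : ℤ) : ZMod p) = 0 := by push_cast; rw [hm]; simp
  rw [ZMod.intCast_zmod_eq_zero_iff_dvd] at h1
  obtain ⟨t, ht⟩ := h1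
  have : m = 1 + (p : ℤ) * t := by omega
  rw [this, add_zsmul, one_zsmul, mul_comm, mul_zsmul, natCast_zsmul, hB, zsmul_zero, add_zero]

theorem iter_identity {G : Type*} [Group G] {A : Type*} [CommGroup A] {p : ℕ} [hp : Fact p.Prime]
    (hA : ∀ a : A, a ^ p = 1) (Q : Subgroup G) (ν : G → A)
    (hν : ∀ a ∈ Q, ∀ b ∈ Q, ν (a * b) = ν a * ν b)
    (z : G) (hz : ∀ q ∈ Q, z⁻¹ * q * z ∈ Q) (u : G) (hu : u ∈ Q) :
    ∏ j ∈ range p, ν ((z ^ j)⁻¹ * u * z ^ j) = ν ((fun y : G => y⁻¹ * z⁻¹ * y * z)^[p - 1] u) := by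
  have hν1 : ν 1 = 1 := by
    have := hν 1 Q.one_mem 1 Q.one_mem
    rw [one_mul] at this
    exact left_eq_mul.mp this
  have hνinv : ∀ a ∈ Q, ν a⁻¹ = (ν a)⁻¹ := by
    intro a ha
    have := hν a ha a⁻¹ (Q.inv_mem ha)
    rw [mul_inv_cancel, hν1] at this
    exact eq_inv_of_mul_eq_one_right this.symm
  have hzj : ∀ j : ℕ, ∀ q ∈ Q, (z ^ j)⁻¹ * q * z ^ j ∈ Q := by
    intro j
    induction j with
    | zero => intro q hq; simpa using hq
    | succ j ih =>
      intro q hq
      have := hz _ (ih q hq)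
      rw [pow_succ]
      convert this using 1
      group
  set it : G → G := fun y => y⁻¹ * z⁻¹ * y * z with hit
  have hitQ : ∀ k : ℕ, it^[k] u ∈ Q := by
    intro k
    induction k with
    | zero => simpa using hu
    | succ k ih =>
      rw [Function.iterate_succ_apply']
      show (it^[k] u)⁻¹ * z⁻¹ * it^[k] u * z ∈ Q
      have := Q.mul_mem (Q.inv_mem ih) (hz _ ih)
      convert this using 1
      group
  set D : ℕ → ℕ → Additive A := fun k j => Additive.ofMul (ν ((z ^ j)⁻¹ * it^[k] u * z ^ j)) with hD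
  have hstep : ∀ k : ℕ, D (k + 1) = fwdDiff (1 : ℕ) (D k) := by
    intro k
    funext j
    rw [fwdDiff]
    show Additive.ofMul (ν ((z ^ j)⁻¹ * it^[k + 1] u * z ^ j)) =
      Additive.ofMul (ν ((z ^ (j + 1))⁻¹ * it^[k] u * z ^ (j + 1))) -
        Additive.ofMul (ν ((z ^ j)⁻¹ * it^[k] u * z ^ j))
    rw [← ofMul_div, Function.iterate_succ_apply']
    congr 1
    set y := it^[k] u with hy
    have hyQ : y ∈ Q := hitQ k
    have h1 : (z ^ j)⁻¹ * it y * z ^ j =
        ((z ^ j)⁻¹ * y * z ^ j)⁻¹ * ((z ^ (j + 1))⁻¹ * y * z ^ (j + 1)) := by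
      rw [pow_succ]
      show (z ^ j)⁻¹ * (y⁻¹ * z⁻¹ * y * z) * z ^ j = _
      group
    rw [h1, hν _ (Q.inv_mem (hzj j y hyQ)) _ (hzj (j + 1) y hyQ), hνinv _ (hzj j y hyQ)]
    rw [div_eq_mul_inv, mul_comm]
  have hDk : ∀ k : ℕ, D k = (fwdDiff (1 : ℕ))^[k] (D 0) := by
    intro k
    induction k with
    | zero => rfl
    | succ k ih => rw [hstep, ih, Function.iterate_succ_apply']
  have hmain : D (p - 1) 0 = ∑ k ∈ range p, D 0 k := by
    rw [hDk, fwdDiff_iter_eq_sum_shift, Nat.sub_add_cancel hp.1.one_le]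
    apply sum_congr rfl
    intro k hk
    rw [mem_range] at hk
    rw [zero_add, smul_eq_mul, mul_one]
    apply zsmul_eq_of_cast_eq_one p
    · intro b
      show Additive.ofMul ((Additive.toMul b) ^ p) = 0
      rw [hA]; rfl
    · exact coeff_eq_one p k (by omega)
  have h2 : D (p - 1) 0 = Additive.ofMul (ν (it^[p - 1] u)) := by
    show Additive.ofMul (ν ((z ^ 0)⁻¹ * it^[p - 1] u * z ^ 0)) = _
    simp
  have h3 : ∑ k ∈ range p, D 0 k = Additive.ofMul (∏ j ∈ range p, ν ((z ^ j)⁻¹ * u * z ^ j)) := by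
    rw [ofMul_prod]
    rfl
  rw [h2, h3] at hmain
  exact (Additive.ofMul.injective hmain).symm

theorem mem_normalizer_of_map_conj_eq {G : Type*} [Group G] {W : Subgroup G} {g : G}
    (h : W.map (MulAut.conj g).toMonoidHom = W) : g ∈ Subgroup.normalizer (W : Set G) := by
  rw [Subgroup.mem_normalizer_iff]
  intro x
  constructor
  · intro hx
    rw [← h]
    exact ⟨x, hx, by simp [MulAut.conj_apply]⟩
  · intro hx
    rw [← h] at hx
    obtain ⟨w, hw, hwx⟩ := hx
    have : w = x := by
      have h2 : g * w * g⁻¹ = g * x * g⁻¹ := by simpa [MulAut.conj_apply] using hwx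
      exact mul_left_cancel (mul_right_cancel h2)
    rw [← this]; exact hw

theorem le_normalizer_of_weaklyClosed {G : Type*} [Group G] {W P : Subgroup G}
    (hW : Cfsg.IsWeaklyClosed W P) : P ≤ Subgroup.normalizer (W : Set G) := by
  intro g hg
  apply mem_normalizer_of_map_conj_eq
  apply hW.2
  rintro _ ⟨w, hw, rfl⟩
  show g * w * g⁻¹ ∈ P
  exact P.mul_mem (P.mul_mem hg (hW.1 hw)) (P.inv_mem hg)

theorem mem_normalizer_of_conj_mem_normalizer {G : Type*} [Group G] [Finite G] {p : ℕ} [hp : Fact p.Prime]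
    (P : Sylow p G) {W : Subgroup G} (hW : Cfsg.IsWeaklyClosed W P) (k : G)
    (h : ∀ w ∈ W, k⁻¹ * w * k ∈ Subgroup.normalizer (W : Set G)) :
    k ∈ Subgroup.normalizer (W : Set G) := by
  set N := Subgroup.normalizer (W : Set G) with hN
  have hWp : IsPGroup p W := P.2.to_le hW.1
  set K : Subgroup G := W.map (MulAut.conj k⁻¹).toMonoidHom with hK
  have hKp : IsPGroup p K := hWp.map _
  have hKN : K ≤ N := by
    rintro _ ⟨w, hw, rfl⟩
    have := h w hw
    simpa [MulAut.conj_apply] using this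
  have hsup : IsPGroup p (K ⊔ W : Subgroup G) := IsPGroup.to_sup_of_normal_right' hKp hWp hKN
  obtain ⟨Q, hQ⟩ := hsup.exists_le_sylow
  obtain ⟨g, hg⟩ := MulAction.exists_smul_eq G P Q
  have hmemQ : ∀ x : G, x ∈ Q → g⁻¹ * x * g ∈ (P : Subgroup G) := by
    intro x hx
    have hx' : x ∈ (g • P : Sylow p G) := by rw [hg]; exact hx
    have hx2 : x ∈ MulAut.conj g • (P : Subgroup G) := hx'
    rw [Subgroup.mem_pointwise_smul_iff_inv_smul_mem] at hx2
    simpa [MulAut.smul_def, MulAut.conj_apply] using hx2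
  have h1 : g⁻¹ ∈ N := by
    apply mem_normalizer_of_map_conj_eq
    apply hW.2
    rintro _ ⟨w, hw, rfl⟩
    have := hmemQ w (hQ (le_sup_right (a := K) hw))
    simpa [MulAut.conj_apply] using this
  have h2 : g⁻¹ * k⁻¹ ∈ N := by
    apply mem_normalizer_of_map_conj_eq
    apply hW.2
    rintro _ ⟨w, hw, rfl⟩
    have hkw : k⁻¹ * w * k ∈ K := ⟨w, hw, by simp [MulAut.conj_apply]⟩
    have := hmemQ _ (hQ (le_sup_left (b := W) hkw))
    show (MulAut.conj (g⁻¹ * k⁻¹)) w ∈ (P : Subgroup G)
    rw [MulAut.conj_apply]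
    convert this using 1
    group
  have h3 : k⁻¹ ∈ N := by
    have := N.mul_mem (N.inv_mem h1) h2
    simpa using this
  simpa using N.inv_mem h3

end Cfsg.Agent.Lib.HW
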