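-- lead: Tate reduction: if `P ∩ G' ≰ V'` (P ≤ V ≤ G, P Sylow) then some normal subgroup of index p of V
-- misses an element of `P ∩ G'`.
import Mathlib
import Cfsg.Prelude.Def_Transfer
import Cfsg.Agent.Helper52.TateGeneral
import Cfsg.Agent.Lib.HW0

set_option autoImplicit false
set_option linter.style.haveILetI false

namespace Cfsg.Agent.Lib.HW

open Cfsg.Agent.Helper34 Cfsg.Agent.Helper52

variable {G : Type*} [Group G] [Finite G] {p : ℕ} [hp : Fact p.Prime]

omit [Finite G] hp in
/-- Elements of `O^p(G)` have order prime to `p` in the abelianization. -/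
theorem orderOf_abelianization_coprime (g : G) (hg : g ∈ Cfsg.pResidual p G) :
    (orderOf (Abelianization.of g)).Coprime p := by
  unfold Cfsg.pResidual at hg
  induction hg using Subgroup.closure_induction with
  | mem x hx =>
    exact Nat.Coprime.coprime_dvd_left (orderOf_map_dvd _ x) hx
  | one => rw [map_one, orderOf_one]; exact Nat.coprime_one_left p
  | mul x y _ _ hx hy =>
    rw [map_mul]
    exact Nat.Coprime.coprime_dvd_left
      ((Commute.all _ _).orderOf_mul_dvd_lcm.trans (Nat.lcm_dvd_mul _ _))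
      (Nat.Coprime.mul_left hx hy)
  | inv x _ hx => rw [map_inv, orderOf_inv]; exact hx

theorem exists_index_p_of_not_focal (P : Sylow p G) (V : Subgroup G)
    (hPV : (P : Subgroup G) ≤ V) (h : ¬ (commutator G ⊓ (P : Subgroup G) ≤ ⁅V, V⁆)) :
    ∃ M : Subgroup V, M.Normal ∧ M.index = p ∧
      ∃ y : V, (y : G) ∈ (P : Subgroup G) ∧ (y : G) ∈ commutator G ∧ y ∉ M := by
  classical
  by_contra hcon
  push Not at hcon
  apply h
  set K := Cfsg.pResidual p G with hK
  set L := Cfsg.pResidual p V with hL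
  have hQ : IsPGroup p (V ⧸ L) := pResidual_quotient_isPGroup p V
  let φ : V →* G ⧸ K := (QuotientGroup.mk' K).comp V.subtype
  have hLφ : ∀ x ∈ L, φ x = 1 := by
    intro x hx
    show ((x : G) : G ⧸ K) = 1
    rw [QuotientGroup.eq_one_iff]
    exact map_subtype_pResidual_le V ⟨x, hx, rfl⟩
  let β : V ⧸ L →* G ⧸ K := QuotientGroup.lift L φ hLφ
  have hβ : ∀ v : V, β (v : V ⧸ L) = ((v : G) : G ⧸ K) := fun v => rfl
  have hH : V.index.Coprime p := by
    rw [Nat.coprime_comm, Nat.Prime.coprime_iff_not_dvd hp.1]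
    intro h
    exact P.not_dvd_index (h.trans (Subgroup.index_dvd_of_le hPV))
  have hfr : β.ker ≤ frattini (V ⧸ L) := by
    intro q hq
    obtain ⟨v, rfl⟩ := QuotientGroup.mk_surjective q
    rw [MonoidHom.mem_ker, hβ, QuotientGroup.eq_one_iff] at hq
    have htop := pResidual_sup_sylow p V (P.subtype hPV)
    have hv : v ∈ ((L ⊔ ((P.subtype hPV : Sylow p V) : Subgroup V) : Subgroup V) : Set V) := by
      rw [htop]; trivial
    rw [Subgroup.normal_mul] at hv
    obtain ⟨l, hl, y, hy, rfl⟩ := hv
    have hyP : (y : G) ∈ (P : Subgroup G) := by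
      rw [SetLike.mem_coe, Sylow.coe_subtype, Subgroup.mem_subgroupOf] at hy
      exact hy
    have hlK : (l : G) ∈ K := map_subtype_pResidual_le V ⟨l, hl, rfl⟩
    have hyK : (y : G) ∈ K := by
      have h1 : (y : G) = (l : G)⁻¹ * ((l * y : V) : G) := by
        rw [Subgroup.coe_mul]; group
      rw [h1]
      exact K.mul_mem (K.inv_mem hlK) hq
    have hyG' : (y : G) ∈ commutator G :=
      mem_commutator_of_mem_pResidual_of_isPGroup (P : Subgroup G) P.2 _ hyP hyK
    have h5 : ((l * y : V) : V ⧸ L) = ((y : V) : V ⧸ L) := by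
      rw [QuotientGroup.mk_mul, (QuotientGroup.eq_one_iff l).mpr hl, one_mul]
    rw [h5]
    unfold frattini Order.radical
    simp only [Subgroup.mem_iInf]
    intro Hbar hHbar
    obtain ⟨hn, hi⟩ := coatom_pgroup hQ Hbar hHbar
    haveI := hn
    have hM := hcon (Hbar.comap (QuotientGroup.mk' L)) inferInstance
      (by rw [Subgroup.index_comap_of_surjective _ (QuotientGroup.mk'_surjective L)]; exact hi)
      y hyP hyG'
    exact hM
  have hker := tate_abstract hQ β V hH (QuotientGroup.mk' L) (fun v => hβ v) hfr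
  have hβsurj : Function.Surjective β := by
    intro x
    obtain ⟨g, rfl⟩ := QuotientGroup.mk_surjective x
    have hg : g ∈ (V ⊔ K : Subgroup G) := by
      rw [sup_pResidual_eq_top_of_coprime_index V hH]; trivial
    rw [← SetLike.mem_coe, Subgroup.mul_normal, Set.mem_mul] at hg
    obtain ⟨v, hv, k, hk, rfl⟩ := hg
    refine ⟨((⟨v, hv⟩ : V) : V ⧸ L), ?_⟩
    rw [hβ, QuotientGroup.mk_mul, (QuotientGroup.eq_one_iff k).mpr hk, mul_one]
  have hβinj : Function.Injective β := (MonoidHom.ker_eq_bot_iff β).mp hker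
  rintro x ⟨hxG', hxP⟩
  have hxV : x ∈ V := hPV hxP
  -- image of x in G/K lies in the derived subgroup
  have h1 : ((x : G) : G ⧸ K) ∈ commutator (G ⧸ K) := by
    have : (commutator G).map (QuotientGroup.mk' K) ≤ commutator (G ⧸ K) := by
      rw [commutator_def, Subgroup.map_commutator, commutator_def]
      exact Subgroup.commutator_mono le_top le_top
    exact this ⟨x, hxG', rfl⟩
  have h2 : commutator (G ⧸ K) = (commutator (V ⧸ L)).map β := by
    rw [commutator_def, commutator_def, Subgroup.map_commutator, ← MonoidHom.range_eq_map,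
      MonoidHom.range_eq_top.mpr hβsurj]
  rw [h2] at h1
  obtain ⟨w, hw, hwx⟩ := h1
  have hwx' : w = ((⟨x, hxV⟩ : V) : V ⧸ L) := hβinj (by rw [hwx, hβ])
  rw [hwx'] at hw
  have h3 : commutator (V ⧸ L) = (commutator V).map (QuotientGroup.mk' L) := by
    rw [commutator_def, commutator_def, Subgroup.map_commutator, ← MonoidHom.range_eq_map,
      MonoidHom.range_eq_top.mpr (QuotientGroup.mk'_surjective L)]
  rw [h3] at hw
  obtain ⟨v', hv', hv'x⟩ := hw
  have hl : v'⁻¹ * (⟨x, hxV⟩ : V) ∈ L := by
    rw [← QuotientGroup.eq]; exact hv'x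
  -- abelianization argument
  set xV : V := ⟨x, hxV⟩ with hxVdef
  have h4 : Abelianization.of xV = Abelianization.of (v'⁻¹ * xV) := by
    rw [map_mul, map_inv]
    have : Abelianization.of v' = 1 := by
      have : v' ∈ (Abelianization.of (G := V)).ker := by rw [Abelianization.ker_of]; exact hv'
      exact this
    rw [this, inv_one, one_mul]
  have h5 : (orderOf (Abelianization.of xV)).Coprime p := by
    rw [h4]; exact orderOf_abelianization_coprime _ hl
  obtain ⟨k, hk⟩ := (IsPGroup.iff_orderOf.mp P.2) ⟨x, hxP⟩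
  have hk' : orderOf xV = p ^ k := by
    rw [← hk]
    rw [← Subgroup.orderOf_coe xV]
    exact (Subgroup.orderOf_mk x hxP).symm
  have h6 : orderOf (Abelianization.of xV) ∣ p ^ k := hk' ▸ orderOf_map_dvd _ xV
  have h7 : orderOf (Abelianization.of xV) = 1 :=
    Nat.eq_one_of_dvd_coprimes (Nat.Coprime.pow_right k h5) dvd_rfl h6
  have h8 : xV ∈ commutator V := by
    rw [← Abelianization.ker_of]
    exact orderOf_eq_one_iff.mp h7
  rw [← Subgroup.map_subtype_commutator]
  exact ⟨xV, h8, rfl⟩

end Cfsg.Agent.Lib.HW
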