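-- lead: partial transfer via cocycles on a G-set (abstract part).
-- A cocycle `c : G → Ω → A` (`c (g*h) x = c g (h • x) * c h x`) with values in a commutative group;
-- `tau c s y = ∏ x ∈ s, c y x` is multiplicative on elements stabilizing the finite set `s`.
import Mathlib

set_option autoImplicit false

namespace Cfsg.Agent.Lib.PT

open Finset

variable {G : Type*} [Group G] {Ω : Type*} [MulAction G Ω] [DecidableEq Ω]
variable {A : Type*} [CommGroup A]

/-- The cocycle condition for `c : G → Ω → A`. -/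
def IsCoc (c : G → Ω → A) : Prop := ∀ g h x, c (g * h) x = c g (h • x) * c h x

omit [DecidableEq Ω] in
theorem IsCoc.one {c : G → Ω → A} (hc : IsCoc c) (x : Ω) : c 1 x = 1 := by
  have h := hc 1 1 x
  rw [one_mul, one_smul] at h
  exact left_eq_mul.mp h

omit [DecidableEq Ω] in
theorem IsCoc.prod_range {c : G → Ω → A} (hc : IsCoc c) (y : G) (x : Ω) (n : ℕ) :
    ∏ i ∈ range n, c y (y ^ i • x) = c (y ^ n) x := by
  induction n with
  | zero => simp [hc.one]
  | succ n ih => rw [prod_range_succ, ih, pow_succ', hc y (y ^ n) x, mul_comm]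

omit [DecidableEq Ω] in
theorem IsCoc.conj {c : G → Ω → A} (hc : IsCoc c) (g y : G) (x : Ω) :
    c (g * y * g⁻¹) (g • x) = c g (y • x) * c y x * (c g x)⁻¹ := by
  have h1 := hc g y x
  have h2 := hc (g * y * g⁻¹) g x
  rw [inv_mul_cancel_right] at h2
  rw [eq_mul_inv_iff_mul_eq, ← h2, h1]

/-- The partial transfer over the finite set `s`. -/
def tau (c : G → Ω → A) (s : Finset Ω) (y : G) : A := ∏ x ∈ s, c y x

theorem image_smul_eq {s : Finset Ω} {h : G} (hs : ∀ x ∈ s, h • x ∈ s) :
    s.image (fun x => h • x) = s := by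
  apply Finset.eq_of_subset_of_card_le
  · intro y hy
    obtain ⟨x, hx, rfl⟩ := mem_image.mp hy
    exact hs x hx
  · rw [card_image_of_injective _ (MulAction.injective h)]

theorem prod_smul {s : Finset Ω} {h : G} (hs : ∀ x ∈ s, h • x ∈ s) (f : Ω → A) :
    ∏ x ∈ s, f (h • x) = ∏ x ∈ s, f x := by
  conv_rhs => rw [← image_smul_eq hs]
  rw [prod_image]
  intro a _ b _ hab
  exact MulAction.injective h hab

theorem tau_mul {c : G → Ω → A} (hc : IsCoc c) {s : Finset Ω} {g h : G}
    (hs : ∀ x ∈ s, h • x ∈ s) : tau c s (g * h) = tau c s g * tau c s h := by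
  unfold tau
  rw [← prod_smul hs (c g), ← prod_mul_distrib]
  exact prod_congr rfl (fun x _ => hc g h x)

omit [DecidableEq Ω] in
theorem tau_one {c : G → Ω → A} (hc : IsCoc c) (s : Finset Ω) : tau c s 1 = 1 := by
  unfold tau
  exact prod_eq_one (fun x _ => hc.one x)

theorem tau_conj {c : G → Ω → A} (hc : IsCoc c) {s : Finset Ω} (g y : G)
    (hs : ∀ x ∈ s, y • x ∈ s) :
    tau c (s.image (fun x => g • x)) (g * y * g⁻¹) = tau c s y := by
  unfold tau
  rw [prod_image (fun a _ b _ hab => MulAction.injective g hab)]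
  simp_rw [hc.conj]
  rw [prod_mul_distrib, prod_mul_distrib, prod_inv_distrib, prod_smul hs (c g)]
  rw [mul_comm (∏ x ∈ s, c g x), mul_assoc, mul_inv_cancel, mul_one]

/-- If every `⟨u⟩`-periodic relation `u^n • x = x` on the `u`-stable finite set `s` has
`c (u^n) x = 1`, then `∏ x ∈ s, c u x = 1`. -/
theorem prod_eq_one_of_periodic {c : G → Ω → A} (hc : IsCoc c) (u : G) (hu : IsOfFinOrder u) :
    ∀ s : Finset Ω, (∀ x ∈ s, u • x ∈ s) →
      (∀ x ∈ s, ∀ n : ℕ, 0 < n → u ^ n • x = x → c (u ^ n) x = 1) → ∏ x ∈ s, c u x = 1 := by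
  intro s
  induction s using Finset.strongInduction with
  | H s ih =>
    intro hs hper
    rcases s.eq_empty_or_nonempty with rfl | ⟨x₀, hx₀⟩
    · simp
    have hit : ∀ i : ℕ, (fun x : Ω => u • x)^[i] x₀ = u ^ i • x₀ := by
      intro i; rw [smul_iterate]
    set n := Function.minimalPeriod (fun x : Ω => u • x) x₀ with hn
    have hn0 : 0 < n := by
      apply Function.minimalPeriod_pos_of_mem_periodicPts
      refine ⟨orderOf u, hu.orderOf_pos, ?_⟩
      show (fun x : Ω => u • x)^[orderOf u] x₀ = x₀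
      rw [hit, pow_orderOf_eq_one, one_smul]
    have hnx : u ^ n • x₀ = x₀ := by
      rw [← hit]; exact Function.isPeriodicPt_minimalPeriod _ _
    have hmem : ∀ i : ℕ, u ^ i • x₀ ∈ s := by
      intro i
      induction i with
      | zero => simpa using hx₀
      | succ i ih2 => rw [pow_succ', mul_smul]; exact hs _ ih2
    set O : Finset Ω := (range n).image (fun i => u ^ i • x₀) with hO
    have hOs : O ⊆ s := by
      intro y hy
      obtain ⟨i, _, rfl⟩ := mem_image.mp hy
      exact hmem i
    have hinj : Set.InjOn (fun i : ℕ => u ^ i • x₀) (range n : Set ℕ) := by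
      intro i hi j hj hij
      have := Function.iterate_injOn_Iio_minimalPeriod (f := fun x : Ω => u • x) (x := x₀)
      apply this
      · simpa using hi
      · simpa using hj
      · show (fun x : Ω => u • x)^[i] x₀ = (fun x : Ω => u • x)^[j] x₀
        rw [hit, hit]; exact hij
    have hOprod : ∏ x ∈ O, c u x = 1 := by
      rw [hO, prod_image hinj, hc.prod_range]
      exact hper x₀ hx₀ n hn0 hnx
    have hOst : ∀ x ∈ O, u • x ∈ O := by
      intro y hy
      obtain ⟨i, hi, rfl⟩ := mem_image.mp hy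
      rw [mem_range] at hi
      rw [← mul_smul, ← pow_succ']
      by_cases h : i + 1 < n
      · exact mem_image.mpr ⟨i + 1, mem_range.mpr h, rfl⟩
      · have : i + 1 = n := by omega
        rw [this, hnx]
        exact mem_image.mpr ⟨0, mem_range.mpr hn0, by simp⟩
    have hsd : ∀ x ∈ s \ O, u • x ∈ s \ O := by
      intro x hx
      rw [mem_sdiff] at hx ⊢
      refine ⟨hs x hx.1, fun hux => hx.2 ?_⟩
      have : u • x ∈ O.image (fun x => u • x) := by rw [image_smul_eq hOst]; exact hux
      obtain ⟨x', hx', hxx⟩ := mem_image.mp this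
      rw [← MulAction.injective u hxx]; exact hx'
    have hlt : s \ O ⊂ s := by
      refine ⟨sdiff_subset, fun h => ?_⟩
      have h1 : x₀ ∈ s \ O := h hx₀
      rw [mem_sdiff] at h1
      exact h1.2 (mem_image.mpr ⟨0, mem_range.mpr hn0, by simp⟩)
    have h1 := ih (s \ O) hlt hsd (fun x hx => hper x (mem_sdiff.mp hx).1)
    rw [← prod_sdiff hOs, h1, hOprod, one_mul]

end Cfsg.Agent.Lib.PT
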