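-- lead: the transfer cocycle on the coset space `G ⧸ N` attached to a homomorphism `N →* A`.
import Mathlib
import Cfsg.Agent.Lib.PT1

set_option autoImplicit false

namespace Cfsg.Agent.Lib.PT

open Finset

variable {G : Type*} [Group G] (N : Subgroup G) {A : Type*} [CommGroup A] (lam : N →* A)

/-- Extension of `lam : N →* A` by `1` outside `N`. -/
noncomputable def ext (g : G) : A := by
  classical exact if h : g ∈ N then lam ⟨g, h⟩ else 1

theorem ext_of_mem {g : G} (h : g ∈ N) : ext N lam g = lam ⟨g, h⟩ := by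
  unfold ext; rw [dif_pos h]

theorem ext_mul {a b : G} (ha : a ∈ N) (hb : b ∈ N) :
    ext N lam (a * b) = ext N lam a * ext N lam b := by
  rw [ext_of_mem N lam ha, ext_of_mem N lam hb, ext_of_mem N lam (N.mul_mem ha hb), ← map_mul]
  rfl

theorem ext_conj {a n : G} (ha : a ∈ N) (hn : n ∈ N) :
    ext N lam (n⁻¹ * a * n) = ext N lam a := by
  rw [ext_mul N lam (N.mul_mem (N.inv_mem hn) ha) hn, ext_mul N lam (N.inv_mem hn) ha,
    ext_of_mem N lam (N.inv_mem hn), ext_of_mem N lam hn, ext_of_mem N lam ha]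
  have : (⟨n⁻¹, N.inv_mem hn⟩ : N) = (⟨n, hn⟩ : N)⁻¹ := rfl
  rw [this, map_inv, mul_comm (lam ⟨n, hn⟩)⁻¹, mul_assoc, inv_mul_cancel, mul_one]

/-- The element of `N` measuring how `y` moves the coset `x` relative to the chosen representatives. -/
noncomputable def cocElt (y : G) (x : G ⧸ N) : G := (y • x).out⁻¹ * y * x.out

theorem cocElt_mem (y : G) (x : G ⧸ N) : cocElt N y x ∈ N := by
  unfold cocElt
  rw [mul_assoc, ← QuotientGroup.eq, QuotientGroup.out_eq']
  conv_lhs => rw [← QuotientGroup.out_eq' x]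
  rfl

/-- The transfer cocycle. -/
noncomputable def coc (y : G) (x : G ⧸ N) : A := ext N lam (cocElt N y x)

theorem isCoc_coc : IsCoc (coc N lam) := by
  intro g h x
  unfold coc
  rw [← ext_mul N lam (cocElt_mem N g (h • x)) (cocElt_mem N h x)]
  congr 1
  unfold cocElt
  rw [mul_smul]
  group

theorem coc_fixed {y : G} {x : G ⧸ N} (h : y • x = x) :
    coc N lam y x = ext N lam (x.out⁻¹ * y * x.out) := by
  unfold coc cocElt
  rw [h]

theorem smul_mk_eq_iff (g k : G) :
    g • (k : G ⧸ N) = (k : G ⧸ N) ↔ k⁻¹ * g * k ∈ N := by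
  rw [MulAction.Quotient.smul_mk, eq_comm, QuotientGroup.eq, smul_eq_mul, ← mul_assoc]

theorem out_inv_mul_mem_of_fixed {y : G} {x : G ⧸ N} (h : y • x = x) :
    x.out⁻¹ * y * x.out ∈ N := by
  have := cocElt_mem N y x
  unfold cocElt at this
  rwa [h] at this

end Cfsg.Agent.Lib.PT
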