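-- lead: core of the Hall-Wielandt / Yoshida transfer argument.
import Mathlib
import Cfsg.Prelude.Def_Transfer
import Cfsg.Agent.Lib.PT1
import Cfsg.Agent.Lib.PT2
import Cfsg.Agent.Lib.HW0

set_option autoImplicit false
set_option linter.style.haveILetI false
set_option linter.unusedSimpArgs false

namespace Cfsg.Agent.Lib.HW

open Finset Subgroup Cfsg.Agent.Lib.PT
open scoped Pointwise

variable {G : Type*} [Group G]

/-- Iterated commutators stay in a subgroup containing both entries. -/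
theorem iter_mem (H : Subgroup G) {u z : G} (hu : u ∈ H) (hz : z ∈ H) (k : ℕ) :
    (fun y : G => y⁻¹ * z⁻¹ * y * z)^[k] u ∈ H := by
  induction k with
  | zero => simpa using hu
  | succ k ih =>
    rw [Function.iterate_succ_apply']
    exact H.mul_mem (H.mul_mem (H.mul_mem (H.inv_mem ih) (H.inv_mem hz)) ih) hz

/-- Iterated commutators stay in a subgroup `Q ∋ u` normalized by `z`. -/
theorem iter_mem_of_normalizes (Q : Subgroup G) {u z : G} (hu : u ∈ Q)
    (hz : ∀ q ∈ Q, z⁻¹ * q * z ∈ Q) (k : ℕ) :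
    (fun y : G => y⁻¹ * z⁻¹ * y * z)^[k] u ∈ Q := by
  induction k with
  | zero => simpa using hu
  | succ k ih =>
    rw [Function.iterate_succ_apply']
    have := Q.mul_mem (Q.inv_mem ih) (hz _ ih)
    convert this using 1
    group

/-- A `p`-element of `H ⊇ P` is `H`-conjugate into the Sylow subgroup `P`. -/
theorem exists_conj_mem_sylow [Finite G] {p : ℕ} [hp : Fact p.Prime] (P : Sylow p G) {H : Subgroup G}
    (hPH : (P : Subgroup G) ≤ H) {y : G} (hyH : y ∈ H) (hy : ∃ k : ℕ, y ^ (p ^ k) = 1) :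
    ∃ m ∈ H, m * y * m⁻¹ ∈ (P : Subgroup G) := by
  obtain ⟨k, hk⟩ := hy
  set y' : H := ⟨y, hyH⟩ with hy'
  have hZ : IsPGroup p (zpowers y') := by
    rintro ⟨g, hg⟩
    obtain ⟨j, rfl⟩ := Subgroup.mem_zpowers_iff.mp hg
    refine ⟨k, ?_⟩
    apply Subtype.ext
    show (y' ^ j) ^ (p ^ k) = 1
    rw [← zpow_natCast, ← zpow_mul, mul_comm, zpow_mul, zpow_natCast]
    have : y' ^ (p ^ k) = 1 := by
      apply Subtype.ext
      show y ^ (p ^ k) = 1
      exact hk
    rw [this, one_zpow]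
  obtain ⟨R, hR⟩ := hZ.exists_le_sylow
  obtain ⟨m, hm⟩ := MulAction.exists_smul_eq H R (P.subtype hPH)
  refine ⟨m, m.2, ?_⟩
  have h1 : y' ∈ (R : Subgroup H) := hR (Subgroup.mem_zpowers y')
  have h2 : MulAut.conj m • y' ∈ MulAut.conj m • (R : Subgroup H) :=
    Subgroup.smul_mem_pointwise_smul _ _ _ h1
  have h3 : MulAut.conj m • (R : Subgroup H) = ((m • R : Sylow p H) : Subgroup H) := rfl
  rw [h3, hm, Sylow.coe_subtype, Subgroup.mem_subgroupOf] at h2
  simpa [MulAut.smul_def, MulAut.conj_apply] using h2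

end Cfsg.Agent.Lib.HW
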