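-- lead: from an iterated commutator outside Φ(W₀) to a wreath product quotient (for Yoshida, S2807).
import Mathlib
import Cfsg.Prelude.Def_Transfer
import Cfsg.Agent.Lib.HW0
import Cfsg.Agent.Lib.HW1
import Cfsg.Agent.Helper2.Basic
import Cfsg.Agent.S1952

set_option autoImplicit false
set_option linter.style.haveILetI false
set_option linter.unusedSimpArgs false

namespace Cfsg.Agent.Lib.HW

open Finset Subgroup

variable {T : Type*} [Group T] {p : ℕ} [hp : Fact p.Prime]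

omit hp in
/-- Coset decomposition modulo a normal subgroup of prime index. -/
theorem exists_pow_mul_of_index_prime (hp : p.Prime) (M : Subgroup T) [M.Normal] (hM : M.index = p) {z : T}
    (hz : z ∉ M) (g : T) : ∃ j < p, (z ^ j)⁻¹ * g ∈ M := by
  have hcardq : Nat.card (T ⧸ M) = p := by rw [← Subgroup.index_eq_card]; exact hM
  haveI : Fact p.Prime := ⟨hp⟩
  set zb : T ⧸ M := (z : T ⧸ M) with hzb
  have hzb1 : zb ≠ 1 := by
    intro h
    rw [hzb, QuotientGroup.eq_one_iff] at h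
    exact hz h
  have hzbord : orderOf zb = p := by
    have := orderOf_dvd_natCard zb
    rw [hcardq] at this
    rcases (Nat.dvd_prime hp).mp this with h | h
    · exact absurd (orderOf_eq_one_iff.mp h) hzb1
    · exact h
  haveI : Finite (T ⧸ M) := Nat.finite_of_card_ne_zero (by rw [hcardq]; exact hp.ne_zero)
  have htop : zpowers zb = ⊤ := zpowers_eq_top_of_prime_card hcardq hzb1
  have hgm : (g : T ⧸ M) ∈ zpowers zb := by rw [htop]; trivial
  rw [← mem_powers_iff_mem_zpowers, Submonoid.mem_powers_iff] at hgm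
  obtain ⟨n, hn⟩ := hgm
  refine ⟨n % p, Nat.mod_lt _ hp.pos, ?_⟩
  rw [← QuotientGroup.eq_one_iff, QuotientGroup.mk_mul, QuotientGroup.mk_inv, QuotientGroup.mk_pow,
    ← hzb, ← hn, ← hzbord, pow_mod_orderOf, inv_mul_cancel]

omit hp in
theorem mem_frattini_of_forall_coatom {H : Type*} [Group H] (x : H)
    (h : ∀ M : Subgroup H, IsCoatom M → x ∈ M) : x ∈ frattini H := by
  unfold frattini Order.radical
  simp only [Subgroup.mem_iInf]
  exact h

/-- Main case: `x ∈ W₀`, `z ∉ W₀`, `[x, z; p-1] ∉ Φ(W₀)` gives the wreath product quotient. -/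
theorem wreath_of_iter_main [Finite T] (hT : IsPGroup p T) (W₀ : Subgroup T) (hW₀ : IsCoatom W₀)
    (x z : T) (hx : x ∈ W₀) (hz : z ∉ W₀)
    (hc' : (fun y : T => y⁻¹ * z⁻¹ * y * z)^[p - 1] x ∉ (frattini ↥W₀).map W₀.subtype) :
    ∃ (Q : Sylow p (Equiv.Perm (Fin (p ^ 2))))
      (f : T →* ↥(Q : Subgroup (Equiv.Perm (Fin (p ^ 2))))), Function.Surjective f := by
  classical
  obtain ⟨hn, hidx⟩ := coatom_pgroup hT W₀ hW₀
  haveI := hn
  set Φ' : Subgroup T := (frattini ↥W₀).map W₀.subtype with hΦ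
  haveI : Φ'.Normal := by rw [hΦ]; infer_instance
  have hΦW : Φ' ≤ W₀ := by
    rintro _ ⟨w, _, rfl⟩; exact w.2
  have hW₀p : IsPGroup p ↥W₀ := hT.to_subgroup W₀
  haveI : Group.IsNilpotent ↥W₀ := hW₀p.isNilpotent
  have hcomm : ∀ a ∈ W₀, ∀ b ∈ W₀, a⁻¹ * b⁻¹ * a * b ∈ Φ' := by
    intro a ha b hb
    refine ⟨(⟨a, ha⟩ : W₀)⁻¹ * (⟨b, hb⟩ : W₀)⁻¹ * ⟨a, ha⟩ * ⟨b, hb⟩, ?_, rfl⟩
    apply Cfsg.Agent.Helper2.commutator_le_frattini
    have := Subgroup.commutator_mem_commutator (Subgroup.mem_top ((⟨a, ha⟩ : W₀)⁻¹))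
      (Subgroup.mem_top ((⟨b, hb⟩ : W₀)⁻¹))
    rw [commutatorElement_def, inv_inv, inv_inv] at this
    exact this
  have hpow : ∀ a ∈ W₀, a ^ p ∈ Φ' := by
    intro a ha
    refine ⟨(⟨a, ha⟩ : W₀) ^ p, ?_, rfl⟩
    apply mem_frattini_of_forall_coatom
    intro M hM
    obtain ⟨hMn, hMi⟩ := coatom_pgroup hW₀p M hM
    haveI := hMn
    have := Subgroup.pow_index_mem M (⟨a, ha⟩ : W₀)
    rwa [hMi] at this
  let π : T →* T ⧸ Φ' := QuotientGroup.mk' Φ'
  have hπ1 : ∀ t : T, π t = 1 ↔ t ∈ Φ' := fun t => QuotientGroup.eq_one_iff t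
  set Abar : Subgroup (T ⧸ Φ') := W₀.map π with hAbar
  haveI : Abar.Normal := Subgroup.Normal.map hn π (QuotientGroup.mk'_surjective Φ')
  have hAidx : Abar.index = p := by
    rw [hAbar, Subgroup.index_map_eq _ (QuotientGroup.mk'_surjective Φ')
      (by rw [QuotientGroup.ker_mk']; exact hΦW)]
    exact hidx
  have hAcomm : ∀ a b : ↥Abar, a * b = b * a := by
    rintro ⟨_, a, ha, rfl⟩ ⟨_, b, hb, rfl⟩
    apply Subtype.ext
    show π a * π b = π b * π a
    rw [← map_mul, ← map_mul]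
    apply (QuotientGroup.eq).mpr
    have := hcomm b hb a ha
    convert this using 1
    group
  have hAexp : ∀ a ∈ Abar, a ^ p = 1 := by
    rintro _ ⟨a, ha, rfl⟩
    rw [← map_pow]
    exact (hπ1 _).mpr (hpow a ha)
  have hAel : Cfsg.IsElementaryAbelian p Abar := ⟨⟨⟨hAcomm⟩⟩, hAexp⟩
  letI : CommGroup ↥Abar := { (inferInstance : Group ↥Abar) with mul_comm := hAcomm }
  let ν : T → ↥Abar := fun t => if h : t ∈ W₀ then ⟨π t, Subgroup.mem_map_of_mem π h⟩ else 1
  have hνW : ∀ t (h : t ∈ W₀), ν t = ⟨π t, Subgroup.mem_map_of_mem π h⟩ := by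
    intro t h; simp only [ν]; rw [dif_pos h]
  have hν : ∀ a ∈ W₀, ∀ b ∈ W₀, ν (a * b) = ν a * ν b := by
    intro a ha b hb
    rw [hνW a ha, hνW b hb, hνW (a * b) (W₀.mul_mem ha hb)]
    apply Subtype.ext
    show π (a * b) = π a * π b
    exact map_mul π a b
  have hAp : ∀ a : ↥Abar, a ^ p = 1 := by
    intro a
    apply Subtype.ext
    rw [Subgroup.coe_pow]
    exact hAexp a a.2
  have hz' : ∀ q ∈ W₀, z⁻¹ * q * z ∈ W₀ := by
    intro q hq
    have := hn.conj_mem q hq z⁻¹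
    simpa using this
  have hid := iter_identity hAp W₀ ν hν z hz' x hx
  set c := (fun y : T => y⁻¹ * z⁻¹ * y * z)^[p - 1] x with hc
  have hcW : c ∈ W₀ := iter_mem_of_normalizes W₀ hx hz' (p - 1)
  have hνc : ν c ≠ 1 := by
    rw [hνW c hcW]
    intro h
    have h2 : π c = 1 := congrArg Subtype.val h
    exact hc' ((hπ1 c).mp h2)
  have hconjW : ∀ i : ℕ, (z ^ i)⁻¹ * x * z ^ i ∈ W₀ := by
    intro i
    have := hn.conj_mem x hx (z ^ i)⁻¹
    simpa using this
  have hcoe : ∀ k : ℕ, ((∏ i ∈ range k, ν ((z ^ i)⁻¹ * x * z ^ i) : ↥Abar) : T ⧸ Φ') =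
      ((List.range k).map (fun i => (π z ^ i)⁻¹ * π x * π z ^ i)).prod := by
    intro k
    induction k with
    | zero => simp
    | succ k ih =>
      rw [Finset.prod_range_succ, Subgroup.coe_mul, ih, List.range_succ, List.map_append,
        List.prod_append, hνW _ (hconjW k)]
      simp
  have hprod : ((List.range p).map (fun i => (π z ^ i)⁻¹ * π x * π z ^ i)).prod ≠ 1 := by
    intro h
    apply hνc
    rw [← hid]
    apply Subtype.ext
    rw [hcoe p, h]
    rfl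
  have hzA : π z ∉ Abar := by
    rintro ⟨w, hw, hwz⟩
    apply hz
    have h1 : w⁻¹ * z ∈ Φ' := (QuotientGroup.eq).mp hwz
    have h2 : z = w * (w⁻¹ * z) := by group
    rw [h2]
    exact W₀.mul_mem hw (hΦW h1)
  have hTq : IsPGroup p (T ⧸ Φ') := hT.to_quotient Φ'
  obtain ⟨Q, f, hf⟩ := Cfsg.Agent.S1952.result hTq Abar hAel hAidx (π x) (π z)
    (Subgroup.mem_map_of_mem π hx) hzA hprod
  exact ⟨Q, f.comp π, hf.comp (QuotientGroup.mk'_surjective Φ')⟩

/-- General case. -/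
theorem wreath_of_iter [Finite T] (hT : IsPGroup p T) (W₀ : Subgroup T) (hW₀ : IsCoatom W₀)
    (x z : T)
    (hc' : (fun y : T => y⁻¹ * z⁻¹ * y * z)^[p - 1] x ∉ (frattini ↥W₀).map W₀.subtype) :
    ∃ (Q : Sylow p (Equiv.Perm (Fin (p ^ 2))))
      (f : T →* ↥(Q : Subgroup (Equiv.Perm (Fin (p ^ 2))))), Function.Surjective f := by
  classical
  obtain ⟨hn, hidx⟩ := coatom_pgroup hT W₀ hW₀
  haveI := hn
  set Φ' : Subgroup T := (frattini ↥W₀).map W₀.subtype with hΦ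
  have hΦW : Φ' ≤ W₀ := by
    rintro _ ⟨w, _, rfl⟩; exact w.2
  have hW₀p : IsPGroup p ↥W₀ := hT.to_subgroup W₀
  haveI : Group.IsNilpotent ↥W₀ := hW₀p.isNilpotent
  have hcomm : ∀ a ∈ W₀, ∀ b ∈ W₀, a⁻¹ * b⁻¹ * a * b ∈ Φ' := by
    intro a ha b hb
    refine ⟨(⟨a, ha⟩ : W₀)⁻¹ * (⟨b, hb⟩ : W₀)⁻¹ * ⟨a, ha⟩ * ⟨b, hb⟩, ?_, rfl⟩
    apply Cfsg.Agent.Helper2.commutator_le_frattini
    have := Subgroup.commutator_mem_commutator (Subgroup.mem_top ((⟨a, ha⟩ : W₀)⁻¹))
      (Subgroup.mem_top ((⟨b, hb⟩ : W₀)⁻¹))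
    rw [commutatorElement_def, inv_inv, inv_inv] at this
    exact this
  obtain ⟨k, hk⟩ : ∃ k, p - 1 = k + 1 := ⟨p - 2, by have := hp.1.two_le; omega⟩
  by_cases hz : z ∈ W₀
  · -- z ∈ W₀
    have hitΦ : ∀ y ∈ W₀, y⁻¹ * z⁻¹ * y * z ∈ Φ' := fun y hy => hcomm y hy z hz
    by_cases hx : x ∈ W₀
    · exfalso
      apply hc'
      rw [hk, Function.iterate_succ_apply']
      exact hitΦ _ (iter_mem W₀ hx hz k)
    · -- x ∉ W₀
      have hitW : x⁻¹ * z⁻¹ * x * z ∈ W₀ := by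
        have := hn.conj_mem z⁻¹ (W₀.inv_mem hz) x⁻¹
        rw [inv_inv] at this
        exact W₀.mul_mem this hz
      rcases k with _ | k
      · -- p = 2
        have hp2 : p - 1 = 1 := hk
        rw [hp2] at hc'
        have hc2 : (fun y : T => y⁻¹ * x⁻¹ * y * x)^[p - 1] z ∉
            (frattini ↥W₀).map W₀.subtype := by
          rw [hp2]
          intro h
          apply hc'
          have := Φ'.inv_mem h
          simp only [Function.iterate_one] at this ⊢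
          convert this using 1
          group
        exact wreath_of_iter_main hT W₀ hW₀ z x hz hx hc2
      · exfalso
        apply hc'
        rw [hk, Function.iterate_succ_apply', Function.iterate_succ_apply]
        apply hitΦ
        exact iter_mem W₀ hitW hz k
  · -- z ∉ W₀
    obtain ⟨j, _, hj⟩ := exists_pow_mul_of_index_prime hp.1 W₀ hidx hz x
    set m := (z ^ j)⁻¹ * x with hm
    have hx : x = z ^ j * m := by rw [hm]; group
    have hit : x⁻¹ * z⁻¹ * x * z = m⁻¹ * z⁻¹ * m * z := by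
      rw [hx]
      have : (z ^ j)⁻¹ * z⁻¹ * z ^ j = z⁻¹ := by
        have hcm : Commute (z ^ j) z⁻¹ := ((Commute.refl z).pow_left j).inv_right
        rw [mul_assoc, ← hcm.eq, inv_mul_cancel_left]
      calc (z ^ j * m)⁻¹ * z⁻¹ * (z ^ j * m) * z
          = m⁻¹ * ((z ^ j)⁻¹ * z⁻¹ * z ^ j) * m * z := by group
        _ = m⁻¹ * z⁻¹ * m * z := by rw [this]
    have hc2 : (fun y : T => y⁻¹ * z⁻¹ * y * z)^[p - 1] m ∉ (frattini ↥W₀).map W₀.subtype := by
      rw [hk, Function.iterate_succ_apply] at hc' ⊢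
      rw [← hit]
      exact hc'
    exact wreath_of_iter_main hT W₀ hW₀ m z hj hz hc2

end Cfsg.Agent.Lib.HW
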