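import Cfsg.Agent.Lib.ZJ6
import Cfsg.Agent.S0651

/-!
# Glauberman's ZJ-theorem for `p`-constrained, `p`-stable groups (lead)
-/

set_option autoImplicit false

namespace Cfsg.Agent.Lib.ZJ

open Subgroup

universe u

theorem centerThompsonAOf_le {G : Type*} [Group G] (S : Subgroup G) :
    Cfsg.centerThompsonAOf S ≤ S := by
  unfold Cfsg.centerThompsonAOf Cfsg.thompsonSubgroupAOf
  exact inf_le_left.trans (Subgroup.map_subtype_le _)

/-- Unconditional form of the ZJ-theorem (using the replacement theorem S0651). -/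
theorem zj_normal {G : Type u} [Group G] [Finite G] {p : ℕ} [Fact p.Prime] (hp : p ≠ 2)
    (hc : centralizer (Cfsg.pCore p G : Set G) ≤ Cfsg.pCore p G)
    (hst : ∀ (P : Subgroup G) [P.Normal], IsPGroup p P → Cfsg.IsPStableOn p P) (S : Sylow p G) :
    (Cfsg.centerThompsonAOf (S : Subgroup G)).Normal :=
  zj_normal_abelian (fun S' B _ h1 h2 => Cfsg.Agent.S0651.result S'.isPGroup' hp ⊤ B h1 h2) hc hst S

/-- `G = O_{p'}(G) N_G(Z(J(P)))` for a `p`-constrained, `p`-stable group, `p` odd. -/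
theorem pPrimeCore_sup_normalizer_zj {G : Type u} [Group G] [Finite G] {p : ℕ} [Fact p.Prime]
    (hp : p ≠ 2) (hc : Cfsg.IsPConstrained p G) (hs : Cfsg.IsPStable p G) (P : Sylow p G) :
    Cfsg.pPrimeCore p G ⊔ normalizer (Cfsg.centerThompsonAOf (P : Subgroup G) : Set G) = ⊤ := by
  set K := Cfsg.pPrimeCore p G with hK
  set π := QuotientGroup.mk' K with hπ
  have hπs : Function.Surjective π := QuotientGroup.mk'_surjective K
  have hker : π.ker = K := QuotientGroup.ker_mk' K
  have hKc : (Nat.card K).Coprime p := card_pPrimeCore_coprime p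
  have hcb : centralizer (Cfsg.pCore p (G ⧸ K) : Set (G ⧸ K)) ≤ Cfsg.pCore p (G ⧸ K) :=
    Cfsg.Agent.Helper54.isPConstrained_iff.1 hc
  have hstb : ∀ (Pb : Subgroup (G ⧸ K)) [Pb.Normal], IsPGroup p Pb → Cfsg.IsPStableOn p Pb :=
    fun Pb _ h => isPStableOn_quotient_of_isPStable hs Pb h
  have hZn := zj_normal hp hcb hstb (P.mapSurjective hπs)
  rw [Sylow.coe_mapSurjective] at hZn
  have hdisj : (P : Subgroup G) ⊓ π.ker = ⊥ := by
    rw [hker]
    apply (Subgroup.disjoint_of_coprime_natCard _).eq_bot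
    obtain ⟨n, hn⟩ := IsPGroup.iff_card.1 P.2
    rw [hn]
    exact (Nat.Coprime.pow_right n hKc).symm
  have hinj := injective_comp_subtype_of_inf_ker π (P : Subgroup G) hdisj
  rw [centerThompsonAOf_map π (P : Subgroup G) hinj] at hZn
  set Z := Cfsg.centerThompsonAOf (P : Subgroup G) with hZ
  have hZp : IsPGroup p Z := P.2.to_le (centerThompsonAOf_le _)
  rw [eq_top_iff]
  intro x _
  have hx : π x ∈ normalizer ((Z.map π : Subgroup (G ⧸ K)) : Set (G ⧸ K)) := by
    rw [Subgroup.normalizer_eq_top]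
    exact Subgroup.mem_top _
  obtain ⟨g, hg, hgx⟩ :=
    Cfsg.Agent.Helper54.exists_mem_normalizer_map_eq π (by rw [hker]; exact hKc) Z hZp x hx
  have h1 : x * g⁻¹ ∈ K := by
    rw [← hker, MonoidHom.mem_ker, map_mul, map_inv, hgx, mul_inv_cancel]
  have h2 : x = (x * g⁻¹) * g := by group
  rw [h2]
  exact Subgroup.mul_mem_sup h1 hg

/-- Statement S0667 in library form. -/
theorem zj_normal_of_pConstrained_pStable {G : Type u} [Group G] [Finite G] {p : ℕ} [Fact p.Prime]
    (hp : p ≠ 2) (hc : Cfsg.IsPConstrained p G) (hs : Cfsg.IsPStable p G) (P : Sylow p G)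
    (hK : Cfsg.pPrimeCore p G = ⊥) : (Cfsg.centerThompsonAOf (P : Subgroup G)).Normal := by
  have h := pPrimeCore_sup_normalizer_zj hp hc hs P
  rw [hK, bot_sup_eq] at h
  exact Subgroup.normalizer_eq_top_iff.1 h

end Cfsg.Agent.Lib.ZJ
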