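-- lead: core of the Hall-Wielandt / Yoshida transfer argument (main lemma).
import Mathlib
import Cfsg.Prelude.Def_Transfer
import Cfsg.Agent.Lib.PT1
import Cfsg.Agent.Lib.PT2
import Cfsg.Agent.Lib.HW0
import Cfsg.Agent.Lib.HW1

set_option autoImplicit false
set_option linter.style.haveILetI false
set_option linter.unusedSimpArgs false
set_option maxHeartbeats 1600000

namespace Cfsg.Agent.Lib.HW

open Finset Subgroup Cfsg.Agent.Lib.PT
open scoped Pointwise

variable {G : Type*} [Group G] [Finite G] {p : ℕ} [hp : Fact p.Prime]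

/-- **Main lemma.** `W` weakly closed in the Sylow `p`-subgroup `P`, `N = N_G(W)`, `lam : N →* A` with
`|A| = p`, and `u ∈ P ∩ G'` of minimal order with `lam u ≠ 1`.  Then there are `z ∈ W`, a subgroup
`W₀ ≤ W` of index `p`, a subgroup `Q ≥ W₀` and a function `ν` multiplicative on `Q` which does not kill
the iterated commutator `[u, z; p-1] ∈ W₀`. -/
theorem core (P : Sylow p G) (W : Subgroup G) (hW : Cfsg.IsWeaklyClosed W P)
    {A : Type*} [CommGroup A] (hA : Nat.card A = p)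
    (N : Subgroup G) (hN : N = Subgroup.normalizer (W : Set G)) (lam : ↥N →* A)
    (u : G) (huP : u ∈ (P : Subgroup G)) (huG : u ∈ commutator G)
    (hu : ext N lam u ≠ 1)
    (hmin : ∀ y : G, y ∈ (P : Subgroup G) → y ∈ commutator G → ext N lam y ≠ 1 →
      orderOf u ≤ orderOf y) :
    ∃ z ∈ W, ∃ (W₀ Q : Subgroup G) (ν : G → A), W₀ ≤ W ∧ W₀ ≤ Q ∧ W₀.relIndex W = p ∧
      (∀ a ∈ Q, ∀ b ∈ Q, ν (a * b) = ν a * ν b) ∧
      (fun y : G => y⁻¹ * z⁻¹ * y * z)^[p - 1] u ∈ W₀ ∧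
      ν ((fun y : G => y⁻¹ * z⁻¹ * y * z)^[p - 1] u) ≠ 1 := by
  classical
  have hPN : (P : Subgroup G) ≤ N := hN ▸ le_normalizer_of_weaklyClosed hW
  have hNiff : ∀ g : G, g ∈ N ↔ g ∈ Subgroup.normalizer (W : Set G) := fun g => by rw [hN]
  haveI : Finite A := Nat.finite_of_card_ne_zero (by rw [hA]; exact hp.1.ne_zero)
  have hAp : ∀ a : A, a ^ p = 1 := by
    intro a; rw [← hA]; exact pow_card_eq_one'
  haveI : Fintype (G ⧸ N) := Fintype.ofFinite _
  set c := coc N lam with hc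
  have hcoc : IsCoc c := isCoc_coc N lam
  have huN : u ∈ N := hPN huP
  -- order facts
  have hu1 : u ≠ 1 := by
    rintro rfl
    apply hu
    rw [ext_of_mem N lam N.one_mem]
    exact map_one lam
  obtain ⟨e, he⟩ : ∃ e : ℕ, orderOf u = p ^ e := by
    obtain ⟨k, hk⟩ := P.2 ⟨u, huP⟩
    have hk' : u ^ (p ^ k) = 1 := by
      have := congrArg Subtype.val hk
      simpa using this
    obtain ⟨e, _, he⟩ := (Nat.dvd_prime_pow hp.1).mp (orderOf_dvd_of_pow_eq_one hk')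
    exact ⟨e, he⟩
  have he0 : e ≠ 0 := by
    rintro rfl
    rw [pow_zero, orderOf_eq_one_iff] at he
    exact hu1 he
  have hpu : p ∣ orderOf u := by rw [he]; exact dvd_pow_self p he0
  have huk : u ^ (p ^ e) = 1 := by rw [← he]; exact pow_orderOf_eq_one u
  -- vanishing on conjugates of proper powers
  have hvan : ∀ g : G, ∀ n : ℕ, p ∣ n → g⁻¹ * u ^ n * g ∈ N →
      ext N lam (g⁻¹ * u ^ n * g) = 1 := by
    intro g n hpn hyN
    by_contra hne
    set y := g⁻¹ * u ^ n * g with hy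
    have hypow : ∀ k : ℕ, y ^ k = g⁻¹ * (u ^ n) ^ k * g := by
      intro k
      induction k with
      | zero => simp
      | succ k ih => rw [pow_succ, ih, pow_succ, hy]; group
    have hyk : y ^ (p ^ e) = 1 := by
      rw [hypow, ← pow_mul, mul_comm, pow_mul, huk, one_pow]; group
    obtain ⟨m, hmN, hmP⟩ := exists_conj_mem_sylow P hPN hyN ⟨e, hyk⟩
    have hyG : m * y * m⁻¹ ∈ commutator G := by
      have h1 : g⁻¹ * u ^ n * g ∈ commutator G := by
        have := (inferInstance : (commutator G).Normal).conj_mem _ ((commutator G).pow_mem huG n) g⁻¹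
        simpa using this
      exact (inferInstance : (commutator G).Normal).conj_mem _ h1 m
    have hext : ext N lam (m * y * m⁻¹) = ext N lam y := by
      have := ext_conj N lam hyN (N.inv_mem hmN)
      simpa using this
    have hle := hmin (m * y * m⁻¹) hmP hyG (by rw [hext]; exact hne)
    -- order of y is smaller
    obtain ⟨t, rfl⟩ := hpn
    have hyk' : y ^ (p ^ (e - 1)) = 1 := by
      have harith : p * t * p ^ (e - 1) = p ^ e * t := by
        rw [mul_right_comm, ← pow_succ', Nat.sub_add_cancel (Nat.one_le_iff_ne_zero.mpr he0)]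
      rw [hypow, ← pow_mul, harith, pow_mul, huk, one_pow]
      group
    have hconj : (m * y * m⁻¹) ^ (p ^ (e - 1)) = 1 := by
      have : ∀ k : ℕ, (m * y * m⁻¹) ^ k = m * y ^ k * m⁻¹ := by
        intro k
        induction k with
        | zero => simp
        | succ k ih => rw [pow_succ, ih, pow_succ]; group
      rw [this, hyk']; group
    have hdvd := orderOf_dvd_of_pow_eq_one hconj
    have hle2 : orderOf (m * y * m⁻¹) ≤ p ^ (e - 1) := Nat.le_of_dvd (pow_pos hp.1.pos _) hdvd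
    have hlt : p ^ (e - 1) < p ^ e := Nat.pow_lt_pow_right hp.1.one_lt (by omega)
    rw [he] at hle
    omega
  -- the full transfer kills u
  have hv : ∏ x : G ⧸ N, c u x = 1 := by
    let v : G →* A := MonoidHom.mk' (fun g => tau c univ g)
      (fun a b => tau_mul hcoc (fun x _ => mem_univ _))
    have : u ∈ v.ker := Abelianization.commutator_subset_ker v huG
    exact this
  set X : Subgroup G := W ⊔ zpowers u with hX
  have hXP : X ≤ (P : Subgroup G) := sup_le hW.1 ((zpowers_le).mpr huP)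
  have hXN : X ≤ N := hXP.trans hPN
  have hWX : W ≤ X := le_sup_left
  have huX : u ∈ X := (le_sup_right : zpowers u ≤ X) (mem_zpowers u)
  set x₁ : G ⧸ N := ((1 : G) : G ⧸ N) with hx₁
  have hfix1 : ∀ g ∈ N, g • x₁ = x₁ := by
    intro g hg
    rw [hx₁, smul_mk_eq_iff]
    simpa using hg
  have hout1 : x₁.out ∈ N := by
    have := QuotientGroup.out_eq' x₁
    rw [hx₁, QuotientGroup.eq] at this
    simpa using this
  have hc1 : c u x₁ = ext N lam u := by
    rw [hc, coc_fixed N lam (hfix1 u huN)]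
    exact ext_conj N lam huN hout1
  -- an X-orbit with nontrivial partial transfer
  obtain ⟨x₂, hx₂1, hprod⟩ : ∃ x₂ : G ⧸ N, x₂ ≠ x₁ ∧
      ∏ a ∈ univ.filter (fun a => ∃ g ∈ X, g • x₂ = a), c u a ≠ 1 := by
    by_contra hcon
    push Not at hcon
    have h1 : ∏ x ∈ univ.erase x₁, c u x = 1 := by
      apply prod_cancels_of_partition_cancels (MulAction.orbitRel X (G ⧸ N))
      intro x hx
      have hxne : x ≠ x₁ := (mem_erase.mp hx).1
      rw [← hcon x hxne]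
      apply prod_congr _ (fun _ _ => rfl)
      ext a
      simp only [mem_filter, mem_erase, mem_univ, and_true, true_and]
      constructor
      · rintro ⟨_, h⟩
        rw [MulAction.orbitRel_apply, MulAction.mem_orbit_iff] at h
        obtain ⟨g, hg⟩ := h
        exact ⟨g.1, g.2, hg⟩
      · rintro ⟨g, hg, rfl⟩
        refine ⟨?_, ?_⟩
        · intro h
          apply hxne
          have h2 : g⁻¹ • (g • x) = g⁻¹ • x₁ := by rw [h]
          rw [inv_smul_smul, hfix1 g⁻¹ (N.inv_mem (hXN hg))] at h2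
          exact h2
        · rw [MulAction.orbitRel_apply, MulAction.mem_orbit_iff]
          exact ⟨⟨g, hg⟩, rfl⟩
    have h2 := mul_prod_erase univ (fun x => c u x) (mem_univ x₁)
    rw [h1, mul_one, hv] at h2
    rw [hc1] at h2
    exact hu h2
  set 𝒪 : Finset (G ⧸ N) := univ.filter (fun a => ∃ g ∈ X, g • x₂ = a) with h𝒪
  have hmem𝒪 : ∀ a, a ∈ 𝒪 ↔ ∃ g ∈ X, g • x₂ = a := by
    intro a; simp [h𝒪]
  have h𝒪st : ∀ g ∈ X, ∀ a ∈ 𝒪, g • a ∈ 𝒪 := by
    intro g hg a ha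
    obtain ⟨h, hh, rfl⟩ := (hmem𝒪 a).mp ha
    exact (hmem𝒪 _).mpr ⟨g * h, X.mul_mem hg hh, mul_smul g h x₂⟩
  -- a point of the orbit fixed by u
  obtain ⟨x₀, hx₀𝒪, hux₀⟩ : ∃ x₀ ∈ 𝒪, u • x₀ = x₀ := by
    by_contra hno
    push Not at hno
    apply hprod
    apply prod_eq_one_of_periodic hcoc u (isOfFinOrder_of_finite u) 𝒪 (h𝒪st u huX)
    intro x hx n hn hnx
    have hpn : p ∣ n := by
      by_contra hpn
      have hcop : Nat.Coprime n (orderOf u) := by
        rw [he]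
        exact Nat.Coprime.pow_right e (((Nat.Prime.coprime_iff_not_dvd hp.1).mpr hpn).symm)
      obtain ⟨m, hm⟩ := exists_pow_eq_self_of_coprime hcop
      apply hno x hx
      have hstab : u ^ n ∈ MulAction.stabilizer G x := hnx
      have := (MulAction.stabilizer G x).pow_mem hstab m
      rw [hm] at this
      exact this
    rw [hc, coc_fixed N lam hnx]
    exact hvan x.out n hpn (out_inv_mul_mem_of_fixed N hnx)
  have hx₀1 : x₀ ≠ x₁ := by
    intro h
    obtain ⟨g, hg, hgx⟩ := (hmem𝒪 x₀).mp hx₀𝒪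
    apply hx₂1
    have h2 : g⁻¹ • (g • x₂) = g⁻¹ • x₁ := by rw [hgx, h]
    rw [inv_smul_smul, hfix1 g⁻¹ (N.inv_mem (hXN hg))] at h2
    exact h2
  have hmem𝒪' : ∀ a, a ∈ 𝒪 ↔ ∃ g ∈ X, g • x₀ = a := by
    intro a
    obtain ⟨g₀, hg₀, hgx⟩ := (hmem𝒪 x₀).mp hx₀𝒪
    rw [hmem𝒪]
    constructor
    · rintro ⟨g, hg, rfl⟩
      refine ⟨g * g₀⁻¹, X.mul_mem hg (X.inv_mem hg₀), ?_⟩
      rw [← hgx, mul_smul, inv_smul_smul]
    · rintro ⟨g, hg, rfl⟩
      exact ⟨g * g₀, X.mul_mem hg hg₀, by rw [mul_smul, hgx]⟩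
  -- W does not fix x₀
  have hWstab : ¬ ∀ w ∈ W, w • x₀ = x₀ := by
    intro h
    apply hx₀1
    have hk : x₀.out ∈ N := by
      apply (hNiff _).mpr
      exact mem_normalizer_of_conj_mem_normalizer P hW x₀.out
        (fun w hw => (hNiff _).mp (out_inv_mul_mem_of_fixed N (h w hw)))
    rw [← QuotientGroup.out_eq' x₀, hx₁, QuotientGroup.eq]
    simpa using N.inv_mem hk
  -- a normal subgroup of index p of X containing the stabilizer
  have hXp : IsPGroup p X := P.2.to_le hXP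
  set E' : Subgroup X := (MulAction.stabilizer G x₀).subgroupOf X with hE'
  have hE'top : E' ≠ ⊤ := by
    intro h
    apply hWstab
    intro w hw
    have : (⟨w, hWX hw⟩ : X) ∈ E' := by rw [h]; trivial
    rw [hE', Subgroup.mem_subgroupOf] at this
    exact this
  obtain ⟨M, hMn, hMi, hEM⟩ := exists_normal_index_p hXp E' hE'top
  haveI := hMn
  set Q' : Subgroup G := M.map X.subtype with hQ'
  have hQX : Q' ≤ X := by
    rintro _ ⟨q, _, rfl⟩; exact q.2
  have memQ : ∀ g (hg : g ∈ X), g ∈ Q' ↔ (⟨g, hg⟩ : X) ∈ M := by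
    intro g hg
    constructor
    · rintro ⟨q, hq, hqg⟩
      have : q = ⟨g, hg⟩ := Subtype.ext hqg
      rw [← this]; exact hq
    · intro h
      exact ⟨⟨g, hg⟩, h, rfl⟩
  have hQconj : ∀ g ∈ X, ∀ q ∈ Q', g * q * g⁻¹ ∈ Q' := by
    intro g hg q hq
    have hqX := hQX hq
    rw [memQ _ (X.mul_mem (X.mul_mem hg hqX) (X.inv_mem hg))]
    have := hMn.conj_mem ⟨q, hqX⟩ ((memQ q hqX).mp hq) ⟨g, hg⟩
    exact this
  have hQconj' : ∀ g ∈ X, ∀ q ∈ Q', g⁻¹ * q * g ∈ Q' := by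
    intro g hg q hq
    have := hQconj g⁻¹ (X.inv_mem hg) q hq
    simpa using this
  have hEQ : ∀ g ∈ X, g • x₀ = x₀ → g ∈ Q' := by
    intro g hg hgx
    rw [memQ g hg]
    apply hEM
    rw [hE', Subgroup.mem_subgroupOf]
    exact hgx
  have huQ : u ∈ Q' := hEQ u huX hux₀
  obtain ⟨z, hzW, hzQ⟩ : ∃ z ∈ W, z ∉ Q' := by
    by_contra hcon
    push Not at hcon
    have hXQ : X ≤ Q' := sup_le hcon ((zpowers_le).mpr huQ)
    have hMtop : M = ⊤ := by
      rw [eq_top_iff]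
      intro g _
      exact (memQ g.1 g.2).mp (hXQ g.2)
    rw [hMtop, Subgroup.index_top] at hMi
    exact hp.1.one_lt.ne hMi
  have hzX : z ∈ X := hWX hzW
  -- the quotient X ⧸ M has order p and is generated by the image of z
  have hcardq : Nat.card (X ⧸ M) = p := by rw [← Subgroup.index_eq_card]; exact hMi
  set zb : X ⧸ M := ((⟨z, hzX⟩ : X) : X ⧸ M) with hzb
  have hzb1 : zb ≠ 1 := by
    intro h
    rw [hzb, QuotientGroup.eq_one_iff] at h
    exact hzQ ((memQ z hzX).mpr h)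
  have hzbord : orderOf zb = p := by
    have := orderOf_dvd_natCard zb
    rw [hcardq] at this
    rcases (Nat.dvd_prime hp.1).mp this with h | h
    · exact absurd (orderOf_eq_one_iff.mp h) hzb1
    · exact h
  have hdecomp : ∀ g ∈ X, ∃ j < p, (z ^ j)⁻¹ * g ∈ Q' := by
    intro g hg
    have htop : zpowers zb = ⊤ := zpowers_eq_top_of_prime_card hcardq hzb1
    have hgm : ((⟨g, hg⟩ : X) : X ⧸ M) ∈ zpowers zb := by rw [htop]; trivial
    rw [← mem_powers_iff_mem_zpowers, Submonoid.mem_powers_iff] at hgm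
    obtain ⟨n, hn⟩ := hgm
    refine ⟨n % p, Nat.mod_lt _ hp.1.pos, ?_⟩
    have hX1 : (z ^ (n % p))⁻¹ * g ∈ X := X.mul_mem (X.inv_mem (X.pow_mem hzX _)) hg
    rw [memQ _ hX1]
    have h2 : ((⟨(z ^ (n % p))⁻¹ * g, hX1⟩ : X) : X ⧸ M) = 1 := by
      have h3 : (⟨(z ^ (n % p))⁻¹ * g, hX1⟩ : X) = (⟨z, hzX⟩ ^ (n % p))⁻¹ * ⟨g, hg⟩ := by
        apply Subtype.ext; simp
      rw [h3, QuotientGroup.mk_mul, QuotientGroup.mk_inv, QuotientGroup.mk_pow, ← hzb, ← hn]
      rw [← hzbord, pow_mod_orderOf, inv_mul_cancel]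
    exact (QuotientGroup.eq_one_iff _).mp h2
  have hjinj : ∀ j < p, ∀ j' < p, (z ^ j')⁻¹ * z ^ j ∈ Q' → j = j' := by
    intro j hj j' hj' h
    have hX1 : (z ^ j')⁻¹ * z ^ j ∈ X := X.mul_mem (X.inv_mem (X.pow_mem hzX _)) (X.pow_mem hzX _)
    have h2 := (memQ _ hX1).mp h
    have h3 : (⟨(z ^ j')⁻¹ * z ^ j, hX1⟩ : X) = (⟨z, hzX⟩ ^ j')⁻¹ * ⟨z, hzX⟩ ^ j := by
      apply Subtype.ext; simp
    rw [h3, ← QuotientGroup.eq_one_iff, QuotientGroup.mk_mul, QuotientGroup.mk_inv,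
      QuotientGroup.mk_pow, QuotientGroup.mk_pow, ← hzb, inv_mul_eq_one] at h2
    have := pow_injOn_Iio_orderOf (x := zb) (by rw [hzbord]; exact hj') (by rw [hzbord]; exact hj) h2
    exact this.symm
  -- W₀
  set W₀ : Subgroup G := W ⊓ Q' with hW₀
  have hW₀idx : W₀.relIndex W = p := by
    rw [hW₀, Subgroup.inf_relIndex_left]
    have h1 : Q'.subgroupOf X = M := by
      ext g
      rw [Subgroup.mem_subgroupOf, memQ g.1 g.2]
    have h2 : (Q'.subgroupOf X).relIndex (W.subgroupOf X) = Q'.relIndex W :=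
      Subgroup.relIndex_subgroupOf hWX
    rw [← h2, h1]
    have h3 : M ⊔ W.subgroupOf X = ⊤ := by
      rw [eq_top_iff]
      intro g _
      obtain ⟨j, _, hj⟩ := hdecomp g.1 g.2
      have hX1 : (z ^ j)⁻¹ * g.1 ∈ X := X.mul_mem (X.inv_mem (X.pow_mem hzX _)) g.2
      have h4 : g = ⟨z ^ j, X.pow_mem hzX j⟩ * ⟨(z ^ j)⁻¹ * g.1, hX1⟩ := by
        apply Subtype.ext; simp
      rw [h4]
      apply Subgroup.mul_mem
      · apply (le_sup_right : W.subgroupOf X ≤ M ⊔ W.subgroupOf X)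
        rw [Subgroup.mem_subgroupOf]
        exact W.pow_mem hzW j
      · apply (le_sup_left : M ≤ M ⊔ W.subgroupOf X)
        exact (memQ _ hX1).mp hj
    rw [← Subgroup.relIndex_sup_left, h3, Subgroup.relIndex_top_right]
    exact hMi
  -- the Q'-orbit of x₀
  set 𝒪' : Finset (G ⧸ N) := univ.filter (fun a => ∃ q ∈ Q', q • x₀ = a) with h𝒪'
  have hmem' : ∀ a, a ∈ 𝒪' ↔ ∃ q ∈ Q', q • x₀ = a := by
    intro a; simp [h𝒪']
  have h𝒪'st : ∀ q ∈ Q', ∀ a ∈ 𝒪', q • a ∈ 𝒪' := by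
    intro q hq a ha
    obtain ⟨q', hq', rfl⟩ := (hmem' a).mp ha
    exact (hmem' _).mpr ⟨q * q', Q'.mul_mem hq hq', mul_smul q q' x₀⟩
  have hdec : 𝒪 = (range p).biUnion (fun j => 𝒪'.image (fun a => z ^ j • a)) := by
    ext a
    rw [hmem𝒪', mem_biUnion]
    constructor
    · rintro ⟨g, hg, rfl⟩
      obtain ⟨j, hj, hjq⟩ := hdecomp g hg
      refine ⟨j, mem_range.mpr hj,
        mem_image.mpr ⟨((z ^ j)⁻¹ * g) • x₀, (hmem' _).mpr ⟨_, hjq, rfl⟩, ?_⟩⟩
      rw [← mul_smul, mul_inv_cancel_left]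
    · rintro ⟨j, _, ha⟩
      obtain ⟨b, hb, rfl⟩ := mem_image.mp ha
      obtain ⟨q, hq, rfl⟩ := (hmem' b).mp hb
      exact ⟨z ^ j * q, X.mul_mem (X.pow_mem hzX j) (hQX hq), mul_smul _ _ _⟩
  have hdisj : ((range p : Finset ℕ) : Set ℕ).PairwiseDisjoint
      (fun j => 𝒪'.image (fun a => z ^ j • a)) := by
    intro j hj j' hj' hne
    rw [Function.onFun, Finset.disjoint_left]
    intro a ha ha'
    obtain ⟨b, hb, rfl⟩ := mem_image.mp ha
    obtain ⟨b', hb', hbb⟩ := mem_image.mp ha'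
    obtain ⟨q, hq, rfl⟩ := (hmem' b).mp hb
    obtain ⟨q', hq', rfl⟩ := (hmem' b').mp hb'
    apply hne
    have hjp : j < p := by simpa using hj
    have hjp' : j' < p := by simpa using hj'
    apply hjinj j hjp j' hjp'
    have hbb' : z ^ j' • q' • x₀ = z ^ j • q • x₀ := hbb
    have he : ((z ^ j * q)⁻¹ * (z ^ j' * q')) • x₀ = x₀ := by
      rw [mul_smul, mul_smul (z ^ j') q' x₀, hbb', ← mul_smul (z ^ j) q, ← mul_smul,
        inv_mul_cancel, one_smul]
    have hzjq : z ^ j * q ∈ X := X.mul_mem (X.pow_mem hzX j) (hQX hq)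
    have hzjq' : z ^ j' * q' ∈ X := X.mul_mem (X.pow_mem hzX j') (hQX hq')
    have heQ := hEQ _ (X.mul_mem (X.inv_mem hzjq) hzjq') he
    have h5 : (z ^ j')⁻¹ * z ^ j = q' * ((z ^ j * q)⁻¹ * (z ^ j' * q'))⁻¹ * q⁻¹ := by group
    rw [h5]
    exact Q'.mul_mem (Q'.mul_mem hq' (Q'.inv_mem heQ)) (Q'.inv_mem hq)
  set ν : G → A := tau c 𝒪' with hν
  have hνmul : ∀ a ∈ Q', ∀ b ∈ Q', ν (a * b) = ν a * ν b :=
    fun a _ b hb => tau_mul hcoc (h𝒪'st b hb)
  have hsum : ∏ a ∈ 𝒪, c u a = ∏ j ∈ range p, ν ((z ^ j)⁻¹ * u * z ^ j) := by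
    rw [hdec, prod_biUnion hdisj]
    apply prod_congr rfl
    intro j _
    have hy : (z ^ j)⁻¹ * u * z ^ j ∈ Q' := hQconj' (z ^ j) (X.pow_mem hzX j) u huQ
    have h1 := tau_conj hcoc (s := 𝒪') (z ^ j) ((z ^ j)⁻¹ * u * z ^ j) (h𝒪'st _ hy)
    have h2 : z ^ j * ((z ^ j)⁻¹ * u * z ^ j) * (z ^ j)⁻¹ = u := by group
    rw [h2] at h1
    exact h1
  have hid := iter_identity hAp Q' ν hνmul z (hQconj' z hzX) u huQ
  refine ⟨z, hzW, W₀, Q', ν, inf_le_left, inf_le_right, hW₀idx, hνmul, ?_, ?_⟩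
  · refine ⟨?_, iter_mem_of_normalizes Q' huQ (hQconj' z hzX) (p - 1)⟩
    obtain ⟨k, hk⟩ : ∃ k, p - 1 = k + 1 := ⟨p - 2, by have := hp.1.two_le; omega⟩
    rw [hk, Function.iterate_succ_apply']
    set y := (fun y : G => y⁻¹ * z⁻¹ * y * z)^[k] u with hy
    have hyX : y ∈ X := iter_mem X huX hzX k
    have hyN : y ∈ Subgroup.normalizer (W : Set G) := (hNiff _).mp (hXN hyX)
    have h1 : y⁻¹ * z⁻¹ * y ∈ W := by
      have := (Subgroup.mem_normalizer_iff.mp (inv_mem hyN) z⁻¹).mp (W.inv_mem hzW)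
      simpa using this
    exact W.mul_mem h1 hzW
  · rw [← hid, ← hsum]
    exact hprod

end Cfsg.Agent.Lib.HW
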