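-- lead: the Hall-Wielandt / Yoshida transfer lemma in final form (= S2792) and consequences.
import Mathlib
import Cfsg.Prelude.Def_Transfer
import Cfsg.Agent.Lib.HW2
import Cfsg.Agent.Lib.HW3

set_option autoImplicit false
set_option linter.style.haveILetI false

namespace Cfsg.Agent.Lib.HW

open Subgroup Cfsg.Agent.Lib.PT

variable {G : Type*} [Group G] [Finite G] {p : ℕ} [hp : Fact p.Prime]

/-- **Hall-Wielandt-Yoshida transfer lemma.** If `N_G(W)` does not control `p`-transfer (`W` weakly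
closed in the Sylow `p`-subgroup `S`), then some iterated commutator `[x, z; p-1]`, `x ∈ S`, `z ∈ W`,
lies in a maximal subgroup `W₀` of `W` but not in `Φ(W₀)`. -/
theorem transfer_lemma (S : Sylow p G) (W : Subgroup G) (hW : Cfsg.IsWeaklyClosed W (S : Subgroup G))
    (h : (S : Subgroup G) ⊓ commutator G ≠
      (S : Subgroup G) ⊓ ⁅Subgroup.normalizer (W : Set G), Subgroup.normalizer (W : Set G)⁆) :
    ∃ x ∈ (S : Subgroup G), ∃ z ∈ W, ∃ W₀ : Subgroup ↥W, IsCoatom W₀ ∧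
      (fun y : G => y⁻¹ * z⁻¹ * y * z)^[p - 1] x ∈ W₀.map W.subtype ∧
      (fun y : G => y⁻¹ * z⁻¹ * y * z)^[p - 1] x ∉
        ((frattini ↥W₀).map W₀.subtype).map W.subtype := by
  classical
  obtain ⟨N, hN⟩ : ∃ N : Subgroup G, N = Subgroup.normalizer (W : Set G) := ⟨_, rfl⟩
  rw [← hN] at h
  have hPN : (S : Subgroup G) ≤ N := hN ▸ le_normalizer_of_weaklyClosed hW
  have h' : ¬ (commutator G ⊓ (S : Subgroup G) ≤ ⁅N, N⁆) := by
    intro hle
    apply h
    apply le_antisymm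
    · intro x hx
      exact ⟨hx.1, hle ⟨hx.2, hx.1⟩⟩
    · intro x hx
      refine ⟨hx.1, ?_⟩
      have : ⁅N, N⁆ ≤ commutator G := by
        rw [commutator_def]; exact Subgroup.commutator_mono le_top le_top
      exact this hx.2
  obtain ⟨M, hMn, hMi, y, hyP, hyG, hyM⟩ := exists_index_p_of_not_focal S N hPN h'
  haveI := hMn
  have hcard : Nat.card (N ⧸ M) = p := by rw [← Subgroup.index_eq_card]; exact hMi
  haveI : IsCyclic (N ⧸ M) := isCyclic_of_prime_card hcard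
  letI : CommGroup (N ⧸ M) := IsCyclic.commGroup
  let lam : N →* (N ⧸ M) := QuotientGroup.mk' M
  have hy1 : ext N lam (y : G) ≠ 1 := by
    rw [ext_of_mem N lam y.2]
    intro h1
    apply hyM
    have h2 : ((y : N) : N ⧸ M) = 1 := h1
    exact (QuotientGroup.eq_one_iff _).mp h2
  have hex : ∃ n : ℕ, ∃ u : G, u ∈ (S : Subgroup G) ∧ u ∈ commutator G ∧ ext N lam u ≠ 1 ∧
      orderOf u = n := ⟨_, y, hyP, hyG, hy1, rfl⟩
  obtain ⟨u, huP, huG, hu, hun⟩ := Nat.find_spec hex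
  have hmin : ∀ y' : G, y' ∈ (S : Subgroup G) → y' ∈ commutator G → ext N lam y' ≠ 1 →
      orderOf u ≤ orderOf y' := by
    intro y' h1 h2 h3
    rw [hun]
    exact Nat.find_min' hex ⟨y', h1, h2, h3, rfl⟩
  obtain ⟨z, hzW, W₀, Q, ν, hW₀W, hW₀Q, hidx, hν, hcW₀, hνc⟩ :=
    core S W hW hcard N hN lam u huP huG hu hmin
  refine ⟨u, huP, z, hzW, W₀.subgroupOf W, ?_, ?_, ?_⟩
  · apply isCoatom_of_index_prime
    have : (W₀.subgroupOf W).index = W₀.relIndex W := rfl
    rw [this, hidx]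
    exact hp.1
  · rw [Subgroup.map_subgroupOf_eq_of_le hW₀W]
    exact hcW₀
  · rintro ⟨w, ⟨φ, hφ, rfl⟩, hwc⟩
    have hmemQ : ∀ t : ↥(W₀.subgroupOf W), ((t : ↥W) : G) ∈ Q := by
      intro t
      apply hW₀Q
      have := t.2
      rw [Subgroup.mem_subgroupOf] at this
      exact this
    let f : ↥(W₀.subgroupOf W) →* (N ⧸ M) :=
      MonoidHom.mk' (fun t => ν ((t : ↥W) : G)) (fun a b => hν _ (hmemQ a) _ (hmemQ b))
    have hfφ : f φ ≠ 1 := by
      show ν ((φ : ↥W) : G) ≠ 1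
      have : ((φ : ↥W) : G) = (fun y : G => y⁻¹ * z⁻¹ * y * z)^[p - 1] u := hwc
      rw [this]
      exact hνc
    exact not_mem_frattini_of_hom hcard f φ hfφ hφ

end Cfsg.Agent.Lib.HW
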