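-- lead: Hall-Wielandt theorem in O^p form (S4215, S4226).
import Mathlib
import Cfsg.Prelude.Def_Transfer
import Cfsg.Prelude.Def_BaumannBlocks
import Cfsg.Agent.Lib.HW4

set_option autoImplicit false
set_option linter.style.haveILetI false

namespace Cfsg.Agent.Lib.HW

open Subgroup Cfsg.Agent.Helper34 Cfsg.Agent.Helper52

variable {G : Type*} [Group G] [Finite G] {p : ℕ} [hp : Fact p.Prime]

/-- Control of `p`-transfer gives `O^p(V) = O^p(G) ∩ V` (via Tate). -/
theorem pResidualOf_eq_of_focal (P : Sylow p G) (V : Subgroup G) (hPV : (P : Subgroup G) ≤ V)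
    (hfoc : commutator G ⊓ (P : Subgroup G) ≤ ⁅V, V⁆) :
    Cfsg.pResidualOf p V = Cfsg.pResidual p G ⊓ V := by
  have ht := tate_general P V hPV hfoc
  unfold Cfsg.pResidualOf
  apply le_antisymm
  · apply le_inf (map_subtype_pResidual_le V)
    rintro _ ⟨v, _, rfl⟩
    exact v.2
  · rintro x ⟨hxK, hxV⟩
    have htop := pResidual_sup_sylow p V (P.subtype hPV)
    have hv : (⟨x, hxV⟩ : V) ∈
        ((Cfsg.pResidual p V ⊔ ((P.subtype hPV : Sylow p V) : Subgroup V) : Subgroup V) : Set V) := by
      rw [htop]; trivial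
    rw [Subgroup.normal_mul] at hv
    obtain ⟨l, hl, y, hy, hly⟩ := hv
    have hyP : (y : G) ∈ (P : Subgroup G) := by
      rw [SetLike.mem_coe, Sylow.coe_subtype, Subgroup.mem_subgroupOf] at hy
      exact hy
    have hlK : (l : G) ∈ Cfsg.pResidual p G := map_subtype_pResidual_le V ⟨l, hl, rfl⟩
    have hx : x = (l : G) * (y : G) := by
      have := congrArg Subtype.val hly
      simpa using this.symm
    have hyK : (y : G) ∈ Cfsg.pResidual p G := by
      have h1 : (y : G) = (l : G)⁻¹ * x := by rw [hx]; group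
      rw [h1]
      exact (Cfsg.pResidual p G).mul_mem ((Cfsg.pResidual p G).inv_mem hlK) hxK
    obtain ⟨y', hy', hyy'⟩ := ht ⟨hyP, hyK⟩
    have : y' = y := Subtype.ext hyy'
    rw [this] at hy'
    refine ⟨l * y, (Cfsg.pResidual p V).mul_mem hl hy', ?_⟩
    rw [hx]; rfl

/-- **Hall-Wielandt.** -/
theorem hall_wielandt (P : Sylow p G) (Q : Subgroup G) (hQ : Cfsg.IsWeaklyClosed Q (P : Subgroup G))
    (h : ∀ u ∈ (P : Subgroup G), ∀ z ∈ Q, (fun y : G => y⁻¹ * z⁻¹ * y * z)^[p - 1] u = 1) :
    Cfsg.pResidualOf p (Subgroup.normalizer (Q : Set G)) =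
      Cfsg.pResidual p G ⊓ Subgroup.normalizer (Q : Set G) := by
  have hPN : (P : Subgroup G) ≤ Subgroup.normalizer (Q : Set G) := le_normalizer_of_weaklyClosed hQ
  apply pResidualOf_eq_of_focal P _ hPN
  by_contra hfoc
  have hne : (P : Subgroup G) ⊓ commutator G ≠ (P : Subgroup G) ⊓
      ⁅Subgroup.normalizer (Q : Set G), Subgroup.normalizer (Q : Set G)⁆ := by
    intro heq
    apply hfoc
    intro x hx
    have : x ∈ (P : Subgroup G) ⊓ commutator G := ⟨hx.2, hx.1⟩
    rw [heq] at this
    exact this.2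
  obtain ⟨x, hx, z, hz, W₀, _, _, hnot⟩ := transfer_lemma P Q hQ hne
  apply hnot
  rw [h x hx z hz]
  exact Subgroup.one_mem _

end Cfsg.Agent.Lib.HW

namespace Cfsg.Agent.Lib.HW

open Subgroup

variable {G : Type*} [Group G] [Finite G] {p : ℕ} [hp : Fact p.Prime]

omit hp in
/-- A finite subgroup is weakly closed in itself. -/
theorem isWeaklyClosed_self (P : Subgroup G) : Cfsg.IsWeaklyClosed P P := by
  refine ⟨le_rfl, fun g hg => ?_⟩
  apply Subgroup.eq_of_le_of_card_ge hg
  rw [Subgroup.card_map_of_injective (MulAut.conj g).injective]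

omit [Finite G] hp in
theorem iter_mem_lowerCentralSeries (P : Subgroup G) {u z : G} (hu : u ∈ P) (hz : z ∈ P) (k : ℕ) :
    (fun y : G => y⁻¹ * z⁻¹ * y * z)^[k] u ∈ P.lowerCentralSeries k := by
  induction k with
  | zero => simpa using hu
  | succ k ih =>
    rw [Function.iterate_succ_apply', Subgroup.lowerCentralSeries_succ]
    have := Subgroup.commutator_mem_commutator ((P.lowerCentralSeries k).inv_mem ih) (P.inv_mem hz)
    rw [commutatorElement_def] at this
    simpa using this

/-- Sylow normalizer controls the `p`-residual when the class of the Sylow subgroup is `< p`. -/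
theorem hall_wielandt_class (P : Sylow p G)
    (hcl : (P : Subgroup G).lowerCentralSeries (p - 1) = ⊥) :
    Cfsg.pResidualOf p (Subgroup.normalizer ((P : Subgroup G) : Set G)) =
      Cfsg.pResidual p G ⊓ Subgroup.normalizer ((P : Subgroup G) : Set G) := by
  apply hall_wielandt P (P : Subgroup G) (isWeaklyClosed_self _)
  intro u hu z hz
  have := iter_mem_lowerCentralSeries (P : Subgroup G) hu hz (p - 1)
  rw [hcl, Subgroup.mem_bot] at this
  exact this

end Cfsg.Agent.Lib.HW
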