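-- lead: Yoshida's transfer theorem (S2807).
import Mathlib
import Cfsg.Prelude.Def_Transfer
import Cfsg.Agent.Lib.HW5
import Cfsg.Agent.Lib.HW6

set_option autoImplicit false
set_option linter.style.haveILetI false

namespace Cfsg.Agent.Lib.HW

open Subgroup

variable {G : Type*} [Group G] [Finite G] {p : ℕ} [hp : Fact p.Prime]

/-- **Yoshida's theorem**: if `N_G(S)` does not control `p`-transfer then the Sylow `p`-subgroup `S`
maps onto `Z_p ≀ Z_p`. -/
theorem yoshida (S : Sylow p G)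
    (h : (S : Subgroup G) ⊓ commutator G ≠ (S : Subgroup G) ⊓
      ⁅Subgroup.normalizer ((S : Subgroup G) : Set G), Subgroup.normalizer ((S : Subgroup G) : Set G)⁆) :
    ∃ (P : Sylow p (Equiv.Perm (Fin (p ^ 2))))
      (f : ↥(S : Subgroup G) →* ↥(P : Subgroup (Equiv.Perm (Fin (p ^ 2))))), Function.Surjective f := by
  obtain ⟨x, hx, z, hz, W₀, hW₀, _, hc'⟩ :=
    transfer_lemma S (S : Subgroup G) (isWeaklyClosed_self _) h
  have hcoe : ∀ k : ℕ, (((fun y : ↥(S : Subgroup G) => y⁻¹ * (⟨z, hz⟩ : ↥(S : Subgroup G))⁻¹ * y * ⟨z, hz⟩)^[k]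
      ⟨x, hx⟩ : ↥(S : Subgroup G)) : G) = (fun y : G => y⁻¹ * z⁻¹ * y * z)^[k] x := by
    intro k
    induction k with
    | zero => rfl
    | succ k ih =>
      rw [Function.iterate_succ_apply', Function.iterate_succ_apply', ← ih]
      rfl
  apply wreath_of_iter S.2 W₀ hW₀ ⟨x, hx⟩ ⟨z, hz⟩
  intro hmem
  apply hc'
  exact ⟨_, hmem, hcoe (p - 1)⟩

end Cfsg.Agent.Lib.HW
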