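import Cfsg.Agent.Lib.BurnsidePQ
import Cfsg.Agent.Helper9.ComplementSystem
import Cfsg.Agent.Helper10.Permutable

/-!
# P. Hall's converse theorem (lead)

A finite group having a `p`-complement for every prime `p` is solvable.

* `HasPComplements G` : for every prime `p` some subgroup has `p`-power index and order prime to `p`.
* `isSolvable_of_hasPComplements`.
* `hasPComplements_of_index_eq` : from the hypothesis in the form
  `H.index = p ^ (Nat.card G).factorization p`.
-/

set_option autoImplicit false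

namespace Cfsg.Agent.Lib

universe u

/-- `G` has a `p`-complement for every prime `p`. -/
def HasPComplements (G : Type*) [Group G] : Prop :=
  ∀ p : ℕ, p.Prime → ∃ H : Subgroup G, (∃ k : ℕ, H.index = p ^ k) ∧ ¬ p ∣ Nat.card H

theorem HasPComplements.quotient {G : Type*} [Group G] [Finite G] (h : HasPComplements G)
    (M : Subgroup G) [M.Normal] : HasPComplements (G ⧸ M) := by
  intro p hp
  obtain ⟨H, ⟨k, hk⟩, hH⟩ := h p hp
  refine ⟨H.map (QuotientGroup.mk' M), ?_, ?_⟩
  · have := Subgroup.index_map_dvd H (QuotientGroup.mk'_surjective M)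
    rw [hk] at this
    obtain ⟨j, -, hj⟩ := (Nat.dvd_prime_pow hp).1 this
    exact ⟨j, hj⟩
  · intro hd
    exact hH (hd.trans (Subgroup.card_map_dvd H (QuotientGroup.mk' M)))

/-- Relative index when the indices are coprime. -/
theorem relIndex_eq_index_of_coprime {G : Type*} [Group G] [Finite G] (K H : Subgroup G)
    (hcop : Nat.Coprime K.index H.index) : K.relIndex H = K.index := by
  have h1 : (K ⊓ H).relIndex H * H.index = (K ⊓ H).index :=
    Subgroup.relIndex_mul_index inf_le_right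
  rw [Helper9.index_inf_of_coprime_index K H hcop, Subgroup.inf_relIndex_right] at h1
  exact Nat.eq_of_mul_eq_mul_right (Nat.pos_of_ne_zero Subgroup.index_ne_zero_of_finite) h1

theorem HasPComplements.subgroup {G : Type*} [Group G] [Finite G] (h : HasPComplements G)
    {q : ℕ} (hq : q.Prime) (H : Subgroup G) (hidx : ∃ k : ℕ, H.index = q ^ k)
    (hH : ¬ q ∣ Nat.card H) : HasPComplements H := by
  intro p hp
  by_cases hpq : p = q
  · subst hpq
    exact ⟨⊤, ⟨0, by simp⟩, by rwa [Subgroup.card_top]⟩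
  · obtain ⟨K, ⟨k, hk⟩, hK⟩ := h p hp
    obtain ⟨j, hj⟩ := hidx
    have hcop : Nat.Coprime K.index H.index := by
      rw [hk, hj]
      exact Nat.Coprime.pow _ _ ((Nat.coprime_primes hp hq).2 hpq)
    refine ⟨K.subgroupOf H, ⟨k, ?_⟩, ?_⟩
    · show K.relIndex H = p ^ k
      rw [relIndex_eq_index_of_coprime K H hcop, hk]
    · intro hd
      apply hK
      have h1 : Nat.card (K.subgroupOf H) = Nat.card ((K.subgroupOf H).map H.subtype) :=
        (Subgroup.card_map_of_injective H.subtype_injective).symm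
      rw [h1, Subgroup.subgroupOf_map_subtype] at hd
      exact hd.trans (Subgroup.card_dvd_of_le inf_le_left)

/-- The index of a `p`-complement is not `1` when `p` divides the order. -/
theorem index_ne_one_of_complement {G : Type*} [Group G] [Finite G] {p : ℕ}
    (hpd : p ∣ Nat.card G) (K : Subgroup G) (hK : ¬ p ∣ Nat.card K) : K.index ≠ 1 := by
  intro h1
  rw [Subgroup.index_eq_one] at h1
  rw [h1, Subgroup.card_top] at hK
  exact hK hpd

theorem card_lt_of_index_ne_one {G : Type*} [Group G] [Finite G] (K : Subgroup G)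
    (hK : K.index ≠ 1) : Nat.card K < Nat.card G := by
  have h1 := K.card_mul_index
  have h2 : 0 < K.index := Nat.pos_of_ne_zero Subgroup.index_ne_zero_of_finite
  have h3 : 0 < Nat.card K := Nat.card_pos
  have : 2 ≤ K.index := by omega
  nlinarith

theorem isSolvable_of_hasPComplements_aux : ∀ (n : ℕ) (G : Type u) [Group G] [Finite G],
    Nat.card G = n → HasPComplements G → Group.IsSolvable G := by
  intro n
  induction n using Nat.strong_induction_on with
  | _ n ih =>
  intro G _ _ hn h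
  by_cases h2 : ∃ p q : ℕ, p.Prime ∧ q.Prime ∧ ∀ r : ℕ, r.Prime → r ∣ Nat.card G → r = p ∨ r = q
  · obtain ⟨p, q, hp, hq, hpq⟩ := h2
    exact isSolvable_of_prime_dvd_card hp hq hpq
  have h3 : ∀ p q : ℕ, p.Prime → q.Prime →
      ∃ r : ℕ, r.Prime ∧ r ∣ Nat.card G ∧ r ≠ p ∧ r ≠ q := by
    intro p q hp hq
    by_contra hcon
    apply h2
    refine ⟨p, q, hp, hq, fun r hr hrd => ?_⟩
    by_contra hne
    rw [not_or] at hne
    exact hcon ⟨r, hr, hrd, hne.1, hne.2⟩
  obtain ⟨p1, hp1, hd1, -, -⟩ := h3 2 2 Nat.prime_two Nat.prime_two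
  obtain ⟨p2, hp2, hd2, h21, -⟩ := h3 p1 p1 hp1 hp1
  obtain ⟨p3, hp3, hd3, h31, h32⟩ := h3 p1 p2 hp1 hp2
  -- the `p1`-complement
  obtain ⟨H, ⟨k, hk⟩, hH⟩ := h p1 hp1
  have hHlt : Nat.card H < n := by
    rw [← hn]
    exact card_lt_of_index_ne_one H (index_ne_one_of_complement hd1 H hH)
  have hHsolv : Group.IsSolvable H := ih (Nat.card H) hHlt H rfl (h.subgroup hp1 H ⟨k, hk⟩ hH)
  have hdvdH : ∀ s : ℕ, s.Prime → s ∣ Nat.card G → s ≠ p1 → s ∣ Nat.card H := by
    intro s hs hsd hs1
    rw [← H.card_mul_index, hk] at hsd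
    rcases (Nat.Prime.dvd_mul hs).1 hsd with h' | h'
    · exact h'
    · exact absurd ((Nat.prime_dvd_prime_iff_eq hs hp1).1 (hs.dvd_of_dvd_pow h')) hs1
  have hHnt : Nontrivial H := by
    rw [← Finite.one_lt_card_iff_nontrivial]
    have := Nat.le_of_dvd Nat.card_pos (hdvdH p2 hp2 hd2 h21)
    have := hp2.two_le
    omega
  obtain ⟨N, hNn, hNbot, hNmin⟩ := exists_minimal_normal (G := H)
  obtain ⟨-, r, hr, hNr⟩ := Cfsg.Agent.S0043.result N hNbot hNmin
  have : Fact r.Prime := ⟨hr⟩
  -- choose a third prime `s ∉ {p1, r}`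
  obtain ⟨s, hs, hsd, hs1, hsr⟩ : ∃ s : ℕ, s.Prime ∧ s ∣ Nat.card G ∧ s ≠ p1 ∧ s ≠ r := by
    by_cases h2r : p2 = r
    · exact ⟨p3, hp3, hd3, h31, fun h' => h32 (h'.trans h2r.symm)⟩
    · exact ⟨p2, hp2, hd2, h21, h2r⟩
  obtain ⟨K, ⟨j, hj⟩, hK⟩ := h s hs
  have hKidx : K.index ≠ 1 := index_ne_one_of_complement hsd K hK
  have hKlt : Nat.card K < n := by
    rw [← hn]; exact card_lt_of_index_ne_one K hKidx
  have hKsolv : Group.IsSolvable K := ih (Nat.card K) hKlt K rfl (h.subgroup hs K ⟨j, hj⟩ hK)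
  have hcopKH : Nat.Coprime K.index H.index := by
    rw [hk, hj]
    exact Nat.Coprime.pow _ _ ((Nat.coprime_primes hs hp1).2 hs1)
  -- `N' = N` as a subgroup of `G`
  set N' : Subgroup G := N.map H.subtype with hN'
  have hN'p : IsPGroup r N' := by
    rintro ⟨x, hx⟩
    obtain ⟨y, hy, rfl⟩ := Subgroup.mem_map.1 hx
    refine ⟨1, ?_⟩
    apply Subtype.ext
    have := hNr y hy
    simp only [pow_one]
    show (H.subtype y) ^ r = 1
    rw [← map_pow, this, map_one]
  have hN'H : ∀ a ∈ H, ∀ x ∈ N', a * x * a⁻¹ ∈ N' := by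
    intro a ha x hx
    obtain ⟨y, hy, rfl⟩ := Subgroup.mem_map.1 hx
    exact Subgroup.mem_map.2 ⟨⟨a, ha⟩ * y * ⟨a, ha⟩⁻¹, hNn.conj_mem y hy ⟨a, ha⟩, rfl⟩
  -- `N'` fixes a coset of `K`
  have hfix : (MulAction.fixedPoints N' (G ⧸ K)).Nonempty := by
    apply hN'p.nonempty_fixed_point_of_prime_not_dvd_card
    rw [← Subgroup.index_eq_card, hj]
    intro hd
    exact hsr ((Nat.prime_dvd_prime_iff_eq hr hs).1 (hr.dvd_of_dvd_pow hd)).symm
  obtain ⟨c, hc⟩ := hfix
  obtain ⟨g, rfl⟩ := QuotientGroup.mk_surjective c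
  have hconj : ∀ x ∈ N', g⁻¹ * x * g ∈ K := by
    intro x hx
    have := hc ⟨x, hx⟩
    have h' : ((x * g : G) : G ⧸ K) = (g : G ⧸ K) := this
    rw [QuotientGroup.eq] at h'
    have h'' := K.inv_mem h'
    simpa [mul_assoc] using h''
  -- `g = a * b` with `a ∈ H`, `b ∈ K`
  have hN'K : N' ≤ K := by
    obtain ⟨a, ha, b, hb, hab⟩ := Helper9.exists_mul_of_coprime_index H K hcopKH.symm g
    intro x hx
    have h1 := hconj (a * x * a⁻¹) (hN'H a ha x hx)
    rw [hab] at h1
    have h2 : b * ((a * b)⁻¹ * (a * x * a⁻¹) * (a * b)) * b⁻¹ ∈ K :=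
      K.mul_mem (K.mul_mem hb h1) (K.inv_mem hb)
    have h3 : b * ((a * b)⁻¹ * (a * x * a⁻¹) * (a * b)) * b⁻¹ = x := by group
    rwa [h3] at h2
  -- the normal closure of `N'` lies in `K`
  set M : Subgroup G := Subgroup.normalClosure (N' : Set G) with hM
  have hMK : M ≤ K := by
    rw [hM, Subgroup.normalClosure, Subgroup.closure_le]
    intro y hy
    obtain ⟨x, hx, hxy⟩ := Group.mem_conjugatesOfSet_iff.1 hy
    obtain ⟨c, hc⟩ := isConj_iff.1 hxy
    obtain ⟨b, hb, a, ha, hba⟩ := Helper9.exists_mul_of_coprime_index K H hcopKH c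
    rw [← hc, hba]
    have h1 : a * x * a⁻¹ ∈ K := hN'K (hN'H a ha x hx)
    have h2 : b * a * x * (b * a)⁻¹ = b * (a * x * a⁻¹) * b⁻¹ := by group
    rw [h2]
    exact K.mul_mem (K.mul_mem hb h1) (K.inv_mem hb)
  have hMn : M.Normal := Subgroup.normalClosure_normal
  have hN'M : N' ≤ M := Subgroup.le_normalClosure
  have hN'bot : N' ≠ ⊥ := by
    intro hb
    apply hNbot
    rw [hN', Subgroup.map_eq_bot_iff_of_injective _ H.subtype_injective] at hb
    exact hb
  have hMbot : M ≠ ⊥ := fun hb => hN'bot (le_bot_iff.1 (hb ▸ hN'M))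
  have hMsolv : Group.IsSolvable M :=
    Group.isSolvable_of_isSolvable_injective (Subgroup.inclusion_injective hMK)
  have hQlt : Nat.card (G ⧸ M) < n := by
    rw [← hn, ← M.index_mul_card]
    show M.index < _
    have h1 : 1 < Nat.card M := (Subgroup.one_lt_card_iff_ne_bot M).2 hMbot
    have h2 : 0 < M.index := Nat.pos_of_ne_zero Subgroup.index_ne_zero_of_finite
    nlinarith
  have hQsolv : Group.IsSolvable (G ⧸ M) := ih (Nat.card (G ⧸ M)) hQlt (G ⧸ M) rfl (h.quotient M)
  exact (Group.isSolvable_iff_subgroup_quotient M).2 ⟨hMsolv, hQsolv⟩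

/-- **P. Hall's converse theorem**: a finite group with a `p`-complement for every prime `p`
is solvable. -/
theorem isSolvable_of_hasPComplements {G : Type u} [Group G] [Finite G] (h : HasPComplements G) :
    Group.IsSolvable G :=
  isSolvable_of_hasPComplements_aux (Nat.card G) G rfl h

/-- The hypothesis in the form `H.index = p ^ (Nat.card G).factorization p`. -/
theorem hasPComplements_of_index_eq {G : Type*} [Group G] [Finite G]
    (h : ∀ p : ℕ, p.Prime → ∃ H : Subgroup G, H.index = p ^ (Nat.card G).factorization p) :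
    HasPComplements G := by
  intro p hp
  obtain ⟨H, hH⟩ := h p hp
  refine ⟨H, ⟨_, hH⟩, fun hd => ?_⟩
  have h1 := H.card_mul_index
  rw [hH] at h1
  -- `p ^ (v+1) ∣ |G|`
  have h2 : p ^ ((Nat.card G).factorization p + 1) ∣ Nat.card G := by
    obtain ⟨c, hc⟩ := hd
    refine ⟨c, ?_⟩
    generalize (Nat.card G).factorization p = v at h1 ⊢
    rw [← h1, hc, pow_succ]
    ring
  have h3 := (hp.pow_dvd_iff_le_factorization Nat.card_pos.ne').1 h2
  omega

section SylowSystem

open Pointwise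

variable {G : Type*} [Group G]

/-- Order of a permutable product of two disjoint subgroups. -/
theorem card_sup_of_mul_subset_of_disjoint [Finite G] (T K : Subgroup G)
    (h : (T : Set G) * (K : Set G) ⊆ (K : Set G) * (T : Set G)) (hd : Disjoint T K) :
    Nat.card (K ⊔ T : Subgroup G) = Nat.card T * Nat.card K := by
  obtain ⟨U, hU⟩ := Helper10.exists_subgroup_of_mul_subset h
  have hUeq : U = K ⊔ T := by
    apply le_antisymm
    · intro x hx
      have hx' : x ∈ (U : Set G) := hx
      rw [hU] at hx'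
      obtain ⟨t, ht, k, hk, rfl⟩ := Set.mem_mul.1 hx'
      exact Subgroup.mul_mem _ (Subgroup.mem_sup_right ht) (Subgroup.mem_sup_left hk)
    · refine sup_le (fun k hk => ?_) (fun t ht => ?_)
      · have : k ∈ (U : Set G) := by
          rw [hU]; exact Set.mem_mul.2 ⟨1, T.one_mem, k, hk, one_mul k⟩
        exact this
      · have : t ∈ (U : Set G) := by
          rw [hU]; exact Set.mem_mul.2 ⟨t, ht, 1, K.one_mem, mul_one t⟩
        exact this
  rw [← hUeq, ← Nat.card_prod]
  let f : T × K → G := fun x => (x.1 : G) * (x.2 : G)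
  have hf : Function.Injective f := Subgroup.mul_injective_of_disjoint hd
  have hr : Set.range f = (U : Set G) := by
    rw [hU]
    ext x
    constructor
    · rintro ⟨⟨t, k⟩, rfl⟩
      exact Set.mem_mul.2 ⟨t, t.2, k, k.2, rfl⟩
    · intro hx
      obtain ⟨t, ht, k, hk, rfl⟩ := Set.mem_mul.1 hx
      exact ⟨(⟨t, ht⟩, ⟨k, hk⟩), rfl⟩
  have h1 : Nat.card (T × K) = Nat.card (Set.range f) := Nat.card_congr (Equiv.ofInjective f hf)
  rw [h1, hr]
  rfl

/-- Joins of members of a Sylow system: permutability and prime divisors of the order. -/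
theorem sylowSystem_iSup [Finite G] (S : (p : Nat.Primes) → Sylow (p : ℕ) G)
    (hS : ∀ p q : Nat.Primes, (S p : Set G) * (S q : Set G) = (S q : Set G) * (S p : Set G))
    (I : Finset Nat.Primes) :
    (∀ q' : Nat.Primes, ((⨆ q ∈ I, (S q : Subgroup G) : Subgroup G) : Set G) * (S q' : Set G) ⊆
      (S q' : Set G) * ((⨆ q ∈ I, (S q : Subgroup G) : Subgroup G) : Set G)) ∧
    (∀ r : Nat.Primes, r ∉ I → ¬ (r : ℕ) ∣ Nat.card (⨆ q ∈ I, (S q : Subgroup G) : Subgroup G)) := by
  classical
  induction I using Finset.induction_on with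
  | empty =>
    constructor
    · intro q'
      simp only [Finset.notMem_empty, iSup_false, iSup_bot, Subgroup.coe_bot]
      intro x hx
      obtain ⟨a, ha, b, hb, rfl⟩ := Set.mem_mul.1 hx
      rw [Set.mem_singleton_iff] at ha
      subst ha
      exact Set.mem_mul.2 ⟨b, hb, 1, rfl, by rw [one_mul, mul_one]⟩
    · intro r _
      simp only [Finset.notMem_empty, iSup_false, iSup_bot, Subgroup.card_bot, Nat.dvd_one]
      exact r.2.ne_one
  | insert q0 I hq0 ih =>
    obtain ⟨iha, ihb⟩ := ih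
    rw [Finset.iSup_insert]
    set T : Subgroup G := ⨆ q ∈ I, (S q : Subgroup G) with hT
    constructor
    · intro q'
      exact Helper10.sup_mul_subset (le_of_eq (hS q0 q')) (iha q')
    · intro r hr
      rw [Finset.mem_insert, not_or] at hr
      have hcop : Nat.Coprime (Nat.card T) (Nat.card (S q0 : Subgroup G)) := by
        have : Fact (q0 : ℕ).Prime := ⟨q0.2⟩
        obtain ⟨m, hm⟩ := (IsPGroup.iff_card.1 (S q0).isPGroup')
        rw [hm]
        exact Nat.Coprime.pow_right _ ((Nat.Prime.coprime_iff_not_dvd q0.2).2 (ihb q0 hq0)).symm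
      have hcard := card_sup_of_mul_subset_of_disjoint T (S q0 : Subgroup G) (iha q0)
        (Subgroup.disjoint_of_coprime_natCard hcop)
      rw [hcard]
      intro hd
      rcases (Nat.Prime.dvd_mul r.2).1 hd with h1 | h1
      · exact ihb r hr.2 h1
      · have : Fact (q0 : ℕ).Prime := ⟨q0.2⟩
        obtain ⟨m, hm⟩ := (IsPGroup.iff_card.1 (S q0).isPGroup')
        rw [hm] at h1
        have := (Nat.prime_dvd_prime_iff_eq r.2 q0.2).1 (r.2.dvd_of_dvd_pow h1)
        exact hr.1 (Subtype.ext this)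

/-- A finite group with a Sylow system (pairwise permutable Sylow subgroups, one for each prime)
has `p`-complements for all primes `p`. -/
theorem hasPComplements_of_sylowSystem [Finite G] (S : (p : Nat.Primes) → Sylow (p : ℕ) G)
    (hS : ∀ p q : Nat.Primes, (S p : Set G) * (S q : Set G) = (S q : Set G) * (S p : Set G)) :
    HasPComplements G := by
  classical
  intro p hp
  let p' : Nat.Primes := ⟨p, hp⟩
  let I0 : Finset Nat.Primes := (Nat.card G).primeFactors.subtype Nat.Prime
  have hI0 : ∀ x : Nat.Primes, x ∈ I0 ↔ (x : ℕ) ∈ (Nat.card G).primeFactors :=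
    fun x => Finset.mem_subtype
  set I : Finset Nat.Primes := I0.erase p' with hI
  obtain ⟨-, hb⟩ := sylowSystem_iSup S hS I
  refine ⟨⨆ q ∈ I, (S q : Subgroup G), ?_, ?_⟩
  · refine ⟨_, Nat.eq_prime_pow_of_unique_prime_dvd Subgroup.index_ne_zero_of_finite
      (fun {d} hd hdd => ?_)⟩
    by_contra hne
    let d' : Nat.Primes := ⟨d, hd⟩
    have hdI : d' ∈ I := by
      rw [hI]
      refine Finset.mem_erase.2 ⟨fun h => hne (congrArg Subtype.val h), (hI0 d').2 ?_⟩
      exact Nat.mem_primeFactors.2 ⟨hd, hdd.trans (Subgroup.index_dvd_card _), Nat.card_pos.ne'⟩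
    have hle : (S d' : Subgroup G) ≤ ⨆ q ∈ I, (S q : Subgroup G) :=
      le_iSup₂ (f := fun (q : Nat.Primes) (_ : q ∈ I) => (S q : Subgroup G)) d' hdI
    have h1 := Subgroup.index_dvd_of_le hle
    have : Fact (d' : ℕ).Prime := ⟨hd⟩
    exact (S d').not_dvd_index (hdd.trans h1)
  · exact hb p' (by rw [hI]; exact Finset.notMem_erase _ _)

end SylowSystem

end Cfsg.Agent.Lib
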