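import Cfsg.Agent.Lib.ZJ

/-!
# Glauberman's ZJ-theorem: translation between families in `↥S` and in `G` (lead)
-/

set_option autoImplicit false

namespace Cfsg.Agent.Lib.ZJ

open Subgroup

universe u

/-- An "intrinsic" property of subgroups, invariant under injective homomorphisms. -/
structure Intrinsic (good : ∀ (K : Type u) [Group K], Subgroup K → Prop) : Prop where
  map_iff : ∀ {H K : Type u} [Group H] [Group K] (f : H →* K), Function.Injective f →
    ∀ A : Subgroup H, good K (A.map f) ↔ good H A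
  comm : ∀ {K : Type u} [Group K] (A : Subgroup K), good K A → ∀ x ∈ A, ∀ y ∈ A, x * y = y * x
  bot : ∀ {K : Type u} [Group K], good K (⊥ : Subgroup K)

/-- The `good` subgroups of the group `K` of largest order. -/
def maxGoodT (good : ∀ (K : Type u) [Group K], Subgroup K → Prop) (K : Type u) [Group K] :
    Set (Subgroup K) :=
  {A | good K A ∧ ∀ B : Subgroup K, good K B → Nat.card B ≤ Nat.card A}

variable {good : ∀ (K : Type u) [Group K], Subgroup K → Prop}

theorem image_map_subtype_maxGoodT (hI : Intrinsic good) {K : Type u} [Group K] (D : Subgroup K) :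
    Set.image (fun A : Subgroup ↥D => A.map D.subtype) (maxGoodT good ↥D) = maxGood (good K) D := by
  ext A
  constructor
  · rintro ⟨A₀, ⟨hg, hmax⟩, rfl⟩
    refine ⟨Subgroup.map_subtype_le A₀, (hI.map_iff D.subtype D.subtype_injective A₀).2 hg,
      fun A' hA' hg' => ?_⟩
    have h1 : (A'.subgroupOf D).map D.subtype = A' := by
      rw [Subgroup.subgroupOf_map_subtype, inf_eq_left.2 hA']
    have h2 : good ↥D (A'.subgroupOf D) := by
      rw [← hI.map_iff D.subtype D.subtype_injective, h1]; exact hg'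
    have h3 := hmax _ h2
    show Nat.card A' ≤ Nat.card (A₀.map D.subtype)
    rw [Subgroup.card_map_of_injective D.subtype_injective]
    calc Nat.card A' = Nat.card ((A'.subgroupOf D).map D.subtype) := by rw [h1]
      _ = Nat.card (A'.subgroupOf D) := Subgroup.card_map_of_injective D.subtype_injective
      _ ≤ _ := h3
  · rintro ⟨hAD, hg, hmax⟩
    have h1 : (A.subgroupOf D).map D.subtype = A := by
      rw [Subgroup.subgroupOf_map_subtype, inf_eq_left.2 hAD]
    refine ⟨A.subgroupOf D, ⟨?_, fun B hB => ?_⟩, h1⟩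
    · rw [← hI.map_iff D.subtype D.subtype_injective, h1]; exact hg
    · have h2 := hmax (B.map D.subtype) (Subgroup.map_subtype_le B)
        ((hI.map_iff D.subtype D.subtype_injective B).2 hB)
      rw [Subgroup.card_map_of_injective D.subtype_injective] at h2
      calc Nat.card B ≤ Nat.card A := h2
        _ = Nat.card ((A.subgroupOf D).map D.subtype) := by rw [h1]
        _ = Nat.card (A.subgroupOf D) := Subgroup.card_map_of_injective D.subtype_injective

theorem maxGood_top {K : Type u} [Group K] :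
    maxGood (good K) (⊤ : Subgroup K) = maxGoodT good K := by
  ext A
  constructor
  · rintro ⟨-, hg, hmax⟩
    exact ⟨hg, fun B hB => hmax B le_top hB⟩
  · rintro ⟨hg, hmax⟩
    exact ⟨le_top, hg, fun B _ hB => hmax B hB⟩

theorem maxGoodT_nonempty (hI : Intrinsic good) {K : Type u} [Group K] [Finite K] :
    (maxGoodT good K).Nonempty := by
  classical
  have : Nonempty {A : Subgroup K // good K A} := ⟨⟨⊥, hI.bot⟩⟩
  obtain ⟨⟨A, hA⟩, hmax⟩ := Finite.exists_max (fun A : {A : Subgroup K // good K A} => Nat.card A.1)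
  exact ⟨A, hA, fun B hB => hmax ⟨B, hB⟩⟩

/-- The replacement property in the form of statements S0651/S0652 with `D = ⊤`. -/
def ReplTop (good : ∀ (K : Type u) [Group K], Subgroup K → Prop) (S : Type u) [Group S] : Prop :=
  ∀ (B : Subgroup S) [B.Normal], ⁅⁅B, B⁆, B⁆ = ⊥ →
    (∃ U ∈ Set.image (fun A : Subgroup ↥(⊤ : Subgroup S) => A.map (⊤ : Subgroup S).subtype)
      (maxGoodT good ↥(⊤ : Subgroup S)), ⁅B, B⁆ ≤ U ∧ ¬ B ≤ U) →
    ∃ A ∈ Set.image (fun A : Subgroup ↥(⊤ : Subgroup S) => A.map (⊤ : Subgroup S).subtype)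
      (maxGoodT good ↥(⊤ : Subgroup S)), ⁅B, B⁆ ≤ A ∧ ¬ B ≤ A ∧ B ≤ normalizer (A : Set S)

theorem hyp_of_replTop (hI : Intrinsic good) {G : Type u} [Group G] [Finite G] {p : ℕ}
    [Fact p.Prime] (S : Sylow p G) (hrepl : ReplTop good ↥(S : Subgroup G)) :
    Hyp (good G) S := by
  have hfam : maxGood (good G) (S : Subgroup G) =
      Set.image (fun A : Subgroup ↥(S : Subgroup G) => A.map (S : Subgroup G).subtype)
        (maxGoodT good ↥(S : Subgroup G)) := (image_map_subtype_maxGoodT hI _).symm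
  have hfamS : Set.image (fun A : Subgroup ↥(⊤ : Subgroup ↥(S : Subgroup G)) =>
      A.map (⊤ : Subgroup ↥(S : Subgroup G)).subtype)
        (maxGoodT good ↥(⊤ : Subgroup ↥(S : Subgroup G))) = maxGoodT good ↥(S : Subgroup G) := by
    rw [image_map_subtype_maxGoodT hI, maxGood_top]
  have hinj := (S : Subgroup G).subtype_injective
  refine ⟨fun A hA => hI.comm A hA, fun A g hA => ?_, ?_, ?_⟩
  · exact (hI.map_iff (MulAut.conj g).toMonoidHom (MulAut.conj g).injective A).2 hA
  · rw [hfam]
    exact (maxGoodT_nonempty hI).image _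
  · intro B hBS hSB hcl2 hex
    have hBn : (B.subgroupOf (S : Subgroup G)).Normal :=
      (Subgroup.normal_subgroupOf_iff_le_normalizer hBS).2 hSB
    have hBmap : (B.subgroupOf (S : Subgroup G)).map (S : Subgroup G).subtype = B := by
      rw [Subgroup.subgroupOf_map_subtype, inf_eq_left.2 hBS]
    set Bs := B.subgroupOf (S : Subgroup G) with hBs
    have hcomm : (⁅Bs, Bs⁆).map (S : Subgroup G).subtype = ⁅B, B⁆ := by
      rw [Subgroup.map_commutator, hBmap]
    have hcl2s : ⁅⁅Bs, Bs⁆, Bs⁆ = ⊥ := by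
      rw [← Subgroup.map_eq_bot_iff_of_injective _ hinj, Subgroup.map_commutator, hcomm, hBmap]
      exact hcl2
    have hexs : ∃ U ∈ Set.image (fun A : Subgroup ↥(⊤ : Subgroup ↥(S : Subgroup G)) =>
        A.map (⊤ : Subgroup ↥(S : Subgroup G)).subtype)
          (maxGoodT good ↥(⊤ : Subgroup ↥(S : Subgroup G))), ⁅Bs, Bs⁆ ≤ U ∧ ¬ Bs ≤ U := by
      obtain ⟨U, hU, hBU, hnBU⟩ := hex
      rw [hfam] at hU
      obtain ⟨Us, hUs, rfl⟩ := hU
      refine ⟨Us, by rw [hfamS]; exact hUs, ?_, ?_⟩
      · rw [← Subgroup.map_le_map_iff_of_injective hinj, hcomm]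
        exact hBU
      · intro hle
        apply hnBU
        rw [← hBmap]
        exact Subgroup.map_mono hle
    obtain ⟨As, hAs, h1, h2, h3⟩ := @hrepl Bs hBn hcl2s hexs
    rw [hfamS] at hAs
    refine ⟨As.map (S : Subgroup G).subtype, by rw [hfam]; exact ⟨As, hAs, rfl⟩, ?_, ?_, ?_⟩
    · rw [← hcomm]
      exact Subgroup.map_mono h1
    · intro hle
      apply h2
      rw [← Subgroup.map_le_map_iff_of_injective hinj, hBmap]
      exact hle
    · rw [← hBmap]
      exact (Subgroup.map_mono h3).trans (Subgroup.le_normalizer_map _)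

end Cfsg.Agent.Lib.ZJ
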