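import Cfsg.Agent.Lib.ZJ2

/-!
# Glauberman's ZJ-theorem: characteristic, and identification with `Z(J(S))` (lead)
-/

set_option autoImplicit false

namespace Cfsg.Agent.Lib.ZJ

open Subgroup

universe u

variable {good : ∀ (K : Type u) [Group K], Subgroup K → Prop}

theorem map_sInf_of_injective {H K : Type*} [Group H] [Group K] (f : H →* K)
    (hf : Function.Injective f) {F : Set (Subgroup H)} (hne : F.Nonempty) :
    (sInf F).map f = sInf (Set.image (fun A : Subgroup H => A.map f) F) := by
  apply le_antisymm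
  · apply le_sInf
    rintro _ ⟨A, hA, rfl⟩
    exact Subgroup.map_mono (sInf_le hA)
  · intro x hx
    rw [Subgroup.mem_sInf] at hx
    obtain ⟨A0, hA0⟩ := hne
    obtain ⟨a, -, rfl⟩ := hx _ ⟨A0, hA0, rfl⟩
    refine ⟨a, ?_, rfl⟩
    show a ∈ sInf F
    rw [Subgroup.mem_sInf]
    intro A hA
    exact (Subgroup.mem_map_iff_mem hf).1 (hx _ ⟨A, hA, rfl⟩)

theorem map_sSup' {H K : Type*} [Group H] [Group K] (f : H →* K) (F : Set (Subgroup H)) :
    (sSup F).map f = sSup (Set.image (fun A : Subgroup H => A.map f) F) := by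
  rw [sSup_eq_iSup', Subgroup.map_iSup, sSup_image']

/-- Transport of the family along an automorphism. -/
theorem map_mem_maxGood (hI : Intrinsic good) {G : Type u} [Group G] (φ : G ≃* G)
    {S A : Subgroup G} (hA : A ∈ maxGood (good G) S) :
    A.map φ.toMonoidHom ∈ maxGood (good G) (S.map φ.toMonoidHom) := by
  obtain ⟨hAS, hg, hmax⟩ := hA
  refine ⟨Subgroup.map_mono hAS, (hI.map_iff φ.toMonoidHom φ.injective A).2 hg, fun A' hA' hg' => ?_⟩
  have h1 : A'.map φ.symm.toMonoidHom ≤ S := by
    have := Subgroup.map_mono (f := φ.symm.toMonoidHom) hA'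
    rw [Subgroup.map_map] at this
    have hid : φ.symm.toMonoidHom.comp φ.toMonoidHom = MonoidHom.id G := by
      ext x; simp
    rwa [hid, Subgroup.map_id] at this
  have h2 : good G (A'.map φ.symm.toMonoidHom) :=
    (hI.map_iff φ.symm.toMonoidHom φ.symm.injective A').2 hg'
  have h3 := hmax _ h1 h2
  rw [Subgroup.card_map_of_injective φ.symm.injective] at h3
  rw [Subgroup.card_map_of_injective φ.injective]
  exact h3

theorem maxGood_map (hI : Intrinsic good) {G : Type u} [Group G] (φ : G ≃* G) (S : Subgroup G) :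
    maxGood (good G) (S.map φ.toMonoidHom) =
      Set.image (fun A : Subgroup G => A.map φ.toMonoidHom) (maxGood (good G) S) := by
  have hid : φ.symm.toMonoidHom.comp φ.toMonoidHom = MonoidHom.id G := by
    ext x; simp
  have hid' : φ.toMonoidHom.comp φ.symm.toMonoidHom = MonoidHom.id G := by
    ext x; simp
  ext A
  constructor
  · intro hA
    have h1 := map_mem_maxGood hI φ.symm hA
    rw [Subgroup.map_map, hid, Subgroup.map_id] at h1
    refine ⟨A.map φ.symm.toMonoidHom, h1, ?_⟩
    show (A.map φ.symm.toMonoidHom).map φ.toMonoidHom = A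
    rw [Subgroup.map_map, hid', Subgroup.map_id]
  · rintro ⟨A₀, hA₀, rfl⟩
    exact map_mem_maxGood hI φ hA₀

theorem sInf_maxGood_map (hI : Intrinsic good) {G : Type u} [Group G] (φ : G ≃* G)
    (S : Subgroup G) (hne : (maxGood (good G) S).Nonempty) :
    sInf (maxGood (good G) (S.map φ.toMonoidHom)) =
      (sInf (maxGood (good G) S)).map φ.toMonoidHom := by
  rw [maxGood_map hI, map_sInf_of_injective _ φ.injective hne]

/-- If `sInf (maxGood good S)` is normal for every Sylow `p`-subgroup `S`, it is characteristic. -/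
theorem sInf_characteristic (hI : Intrinsic good) {G : Type u} [Group G] [Finite G] {p : ℕ}
    [Fact p.Prime] (hne : ∀ S : Sylow p G, (maxGood (good G) (S : Subgroup G)).Nonempty)
    (hn : ∀ S : Sylow p G, (sInf (maxGood (good G) (S : Subgroup G))).Normal) (S : Sylow p G) :
    (sInf (maxGood (good G) (S : Subgroup G))).Characteristic := by
  rw [Subgroup.characteristic_iff_map_le]
  intro φ
  have h1 : ((φ • S : Sylow p G) : Subgroup G) = (S : Subgroup G).map φ.toMonoidHom := rfl
  obtain ⟨g, hg⟩ := MulAction.exists_smul_eq G S (φ • S)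
  have h2 : ((g • S : Sylow p G) : Subgroup G) =
      (S : Subgroup G).map (MulAut.conj g).toMonoidHom := rfl
  have h3 : (S : Subgroup G).map φ.toMonoidHom = (S : Subgroup G).map (MulAut.conj g).toMonoidHom := by
    rw [← h1, ← h2, hg]
  rw [← sInf_maxGood_map hI φ _ (hne S), h3, sInf_maxGood_map hI (MulAut.conj g) _ (hne S)]
  have := hn S
  have h4 : (sInf (maxGood (good G) (S : Subgroup G))).map (MulAut.conj g).toMonoidHom =
      sInf (maxGood (good G) (S : Subgroup G)) := Subgroup.Normal.map_conj_eq _ g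
  rw [h4]

end Cfsg.Agent.Lib.ZJ
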