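import Cfsg.Agent.Lib.ZJ5

/-!
# Transport of `Z(J(S))` along a homomorphism injective on `S` (lead)
-/

set_option autoImplicit false

namespace Cfsg.Agent.Lib.ZJ

open Subgroup

universe u

variable {good : ∀ (K : Type u) [Group K], Subgroup K → Prop}

theorem injective_comp_subtype_of_inf_ker {G H : Type*} [Group G] [Group H] (f : G →* H)
    (S : Subgroup G) (h : S ⊓ f.ker = ⊥) : Function.Injective (f.comp S.subtype) := by
  rw [injective_iff_map_eq_one]
  rintro ⟨x, hx⟩ hfx
  have : x ∈ S ⊓ f.ker := ⟨hx, hfx⟩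
  rw [h, Subgroup.mem_bot] at this
  exact Subtype.ext this

section

variable {G H : Type u} [Group G] [Group H] (f : G →* H) (S : Subgroup G)
  (hinj : Function.Injective (f.comp S.subtype))

include hinj

theorem eq_of_map_eq_of_mem {x y : G} (hx : x ∈ S) (hy : y ∈ S) (h : f x = f y) : x = y := by
  have := @hinj ⟨x, hx⟩ ⟨y, hy⟩ h
  exact congrArg Subtype.val this

theorem map_eq_map_subgroupOf {A : Subgroup G} (hA : A ≤ S) :
    A.map f = (A.subgroupOf S).map (f.comp S.subtype) := by
  rw [← Subgroup.map_map, Subgroup.subgroupOf_map_subtype, inf_eq_left.2 hA]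

theorem good_map_iff_of_le (hI : Intrinsic good) {A : Subgroup G} (hA : A ≤ S) :
    good H (A.map f) ↔ good G A := by
  rw [map_eq_map_subgroupOf f S hinj hA, hI.map_iff _ hinj]
  have h1 : (A.subgroupOf S).map S.subtype = A := by
    rw [Subgroup.subgroupOf_map_subtype, inf_eq_left.2 hA]
  conv_rhs => rw [← h1]
  exact (hI.map_iff S.subtype S.subtype_injective _).symm

theorem card_map_of_le {A : Subgroup G} (hA : A ≤ S) : Nat.card (A.map f) = Nat.card A := by
  rw [map_eq_map_subgroupOf f S hinj hA, Subgroup.card_map_of_injective hinj]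
  have h1 : (A.subgroupOf S).map S.subtype = A := by
    rw [Subgroup.subgroupOf_map_subtype, inf_eq_left.2 hA]
  conv_rhs => rw [← h1]
  exact (Subgroup.card_map_of_injective S.subtype_injective).symm

omit hinj in
theorem exists_eq_map_of_le_map {A' : Subgroup H} (hA' : A' ≤ S.map f) :
    (A'.comap f ⊓ S).map f = A' := by
  apply le_antisymm
  · rintro _ ⟨x, hx, rfl⟩
    exact hx.1
  · intro y hy
    obtain ⟨s, hs, rfl⟩ := hA' hy
    exact ⟨s, ⟨hy, hs⟩, rfl⟩

theorem maxGood_map_of_injOn (hI : Intrinsic good) :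
    maxGood (good H) (S.map f) = Set.image (fun A : Subgroup G => A.map f) (maxGood (good G) S) := by
  ext A'
  constructor
  · rintro ⟨hA'S, hg, hmax⟩
    have hA := exists_eq_map_of_le_map f S hA'S
    have hAS : A'.comap f ⊓ S ≤ S := inf_le_right
    refine ⟨A'.comap f ⊓ S, ⟨hAS, ?_, fun B hB hgB => ?_⟩, hA⟩
    · rw [← good_map_iff_of_le f S hinj hI hAS, hA]; exact hg
    · have h1 := hmax (B.map f) (Subgroup.map_mono hB) ((good_map_iff_of_le f S hinj hI hB).2 hgB)
      rw [card_map_of_le f S hinj hB] at h1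
      rw [← card_map_of_le f S hinj hAS, hA]
      exact h1
  · rintro ⟨A, ⟨hAS, hg, hmax⟩, rfl⟩
    refine ⟨Subgroup.map_mono hAS, (good_map_iff_of_le f S hinj hI hAS).2 hg, fun B' hB' hgB' => ?_⟩
    have hB := exists_eq_map_of_le_map f S hB'
    have hBS : B'.comap f ⊓ S ≤ S := inf_le_right
    have h1 : good G (B'.comap f ⊓ S) := by
      rw [← good_map_iff_of_le f S hinj hI hBS, hB]; exact hgB'
    have h2 := hmax _ hBS h1
    show Nat.card B' ≤ Nat.card (A.map f)
    rw [card_map_of_le f S hinj hAS, ← hB, card_map_of_le f S hinj hBS]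
    exact h2

theorem map_sInf_of_injOn {F : Set (Subgroup G)} (hne : F.Nonempty) (hF : ∀ A ∈ F, A ≤ S) :
    (sInf F).map f = sInf (Set.image (fun A : Subgroup G => A.map f) F) := by
  apply le_antisymm
  · apply le_sInf
    rintro _ ⟨A, hA, rfl⟩
    exact Subgroup.map_mono (sInf_le hA)
  · intro x hx
    rw [Subgroup.mem_sInf] at hx
    obtain ⟨A0, hA0⟩ := hne
    obtain ⟨a, ha, rfl⟩ := hx _ ⟨A0, hA0, rfl⟩
    refine ⟨a, ?_, rfl⟩
    show a ∈ sInf F
    rw [Subgroup.mem_sInf]
    intro A hA
    obtain ⟨a', ha', h⟩ := hx _ ⟨A, hA, rfl⟩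
    have := eq_of_map_eq_of_mem f S hinj (hF A hA ha') (hF A0 hA0 ha) h
    rw [← this]
    exact ha'

theorem sInf_maxGood_map_of_injOn (hI : Intrinsic good) (hne : (maxGood (good G) S).Nonempty) :
    sInf (maxGood (good H) (S.map f)) = (sInf (maxGood (good G) S)).map f := by
  rw [maxGood_map_of_injOn f S hinj hI, map_sInf_of_injOn f S hinj hne (fun A hA => hA.1)]

end

/-- `Z(J(S))` is carried to `Z(J(f S))` by a homomorphism injective on `S`. -/
theorem centerThompsonAOf_map {G H : Type u} [Group G] [Group H] [Finite G] [Finite H] (f : G →* H)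
    (S : Subgroup G) (hinj : Function.Injective (f.comp S.subtype)) :
    Cfsg.centerThompsonAOf (S.map f) = (Cfsg.centerThompsonAOf S).map f := by
  rw [centerThompsonAOf_eq_sInf, centerThompsonAOf_eq_sInf]
  apply sInf_maxGood_map_of_injOn f S hinj intrinsic_comm
  have hfam : maxGood (goodComm G) S =
      Set.image (fun A : Subgroup ↥S => A.map S.subtype) (maxGoodT goodComm ↥S) :=
    (image_map_subtype_maxGoodT intrinsic_comm _).symm
  rw [hfam]
  exact (maxGoodT_nonempty intrinsic_comm).image _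

end Cfsg.Agent.Lib.ZJ
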